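import Cfsg.Agent.Lib.GL23Amalgam.Model

/-!
Finite facts about affine maps used to put the amalgam in coordinates.
-/

set_option autoImplicit false
set_option maxRecDepth 10000

namespace Cfsg.Agent.GL23Amalgam

open Aff

theorem centre_uni : ∀ m : Aff, m.IsUni → m * ⟨1, 1, 0, 1, 0, 0⟩ = ⟨1, 1, 0, 1, 0, 0⟩ * m →
    m * tr 0 1 = tr 0 1 * m → m.b = 0 ∧ m.q = 0 :=
  forall_of_all (by decide +kernel)

theorem uni_centre : ∀ m : Aff, m.IsUni → ∀ p : ZMod 3, m * tr p 0 = tr p 0 * m :=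
  forall_of_all (by decide +kernel)

theorem borel_conj : ∀ m : Aff, m.IsBorel → ∀ p : ZMod 3, m * tr p 0 = tr (m.a * p) 0 * m :=
  forall_of_all (by decide +kernel)

theorem borel_of_one : ∀ m : Aff, m.IsBorel → m.OK → m.a = 1 ∨ m.a = 2 :=
  forall_of_all (by decide +kernel)

/-- The left factor of the Bruhat normal form. -/
def left (m : Aff) : Aff := ⟨1, -(m.a * m.c), 0, 1, 0, 0⟩ * tr (-m.p) (-m.q)

/-- The right factor of the Bruhat normal form. -/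
def right (m : Aff) : Aff :=
  ⟨1, -(m.d * m.c), 0, 1, 0, 0⟩ * ⟨2 * m.c, 0, 0, 2 * (m.b - m.a * m.c * m.d), 0, 0⟩

theorem bruhat : ∀ m : Aff, m.OK → m.c ≠ 0 →
    left m * m * right m = genA 2 ∧ (left m).IsBorel ∧ (left m).OK ∧ (right m).IsBorel ∧ (right m).OK :=
  forall_of_all (by decide +kernel)

theorem genA_two : genA 2 * genA 2 = 1 ∧ (genA 2).OK ∧ ¬ (genA 2).IsBorel := by decide +kernel

theorem gens_ok : (∀ x ∈ lettersA, (genA x).OK ∧ genA x * genA x = 1) ∧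
    (∀ x ∈ lettersB, (genB x).OK ∧ genB x * genB x = 1) ∧
    (∀ x ∈ [0, 1, 4, 5], (genA x).IsBorel ∧ (genB x).IsBorel) := by decide +kernel

/-- `x` from an element outside the translations generating an abelian normal subgroup. -/
theorem find_x : ∀ k : Aff, k.IsUni → k.b ≠ 0 →
    (genA 0 * k * genA 0) * k = k * (genA 0 * k * genA 0) →
    genA 0 * k * genA 0 * k = ev genA [1, 4] ∨
      genA 0 * k * genA 0 * k * (genA 0 * k * genA 0 * k) = ev genA [1, 4] :=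
  forall_of_all (by decide +kernel)

theorem match_one_list : ∀ V : Aff, V.IsBorel → V * V = 1 → ∀ p q : ZMod 3, q ≠ 0 →
    V * tr p q * V * tr p q = 1 → V * tr 1 0 * V * tr 1 0 = 1 → ∃ i j : ZMod 3, tr i j * V = genB 1 * tr i j :=
  forall_of_all (by decide +kernel)

theorem commute_negI : ∀ m : Aff, m * genB 1 = genB 1 * m → m.p = 0 ∧ m.q = 0 :=
  forall_of_all (by decide +kernel)

theorem uni_lin : ∀ m : Aff, m.IsUni → m.p = 0 → m.q = 0 →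
    m = ⟨1, 0, 0, 1, 0, 0⟩ ∨ m = ⟨1, 1, 0, 1, 0, 0⟩ ∨ m = ⟨1, 2, 0, 1, 0, 0⟩ :=
  forall_of_all (by decide +kernel)

theorem match_two_list : ∀ T : Aff, T.IsBorel → T.p = 0 → T.q = 0 → T * T = 1 → ∀ p q : ZMod 3, q ≠ 0 →
    T * tr p q = tr p q * T → ∀ e ∈ ([⟨1, 1, 0, 1, 0, 0⟩, ⟨1, 2, 0, 1, 0, 0⟩] : List Aff), T * e * T * e = 1 →
    ∃ a b d : ZMod 3, a ≠ 0 ∧ d ≠ 0 ∧ (⟨a, b, 0, d, 0, 0⟩ : Aff) * tr p q = ev genB [1, 4] * ⟨a, b, 0, d, 0, 0⟩ ∧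
      (⟨a, b, 0, d, 0, 0⟩ : Aff) * e = ev genB [0, 5] * ⟨a, b, 0, d, 0, 0⟩ ∧
      (⟨a, b, 0, d, 0, 0⟩ : Aff) * T = genB 0 * ⟨a, b, 0, d, 0, 0⟩ ∧
      (⟨a, b, 0, d, 0, 0⟩ : Aff) * genB 1 = genB 1 * ⟨a, b, 0, d, 0, 0⟩ :=
  forall_of_all (by decide +kernel)

theorem stdA_rel :
    ev genA [0, 0] = 1 ∧ ev genA [1, 1] = 1 ∧ ev genA [1, 0] = ev genA [0, 1] ∧
    ev genA [0, 1, 4] = ev genA [1, 4, 0] ∧ ev genA [1, 1, 4, 1, 1, 4] = 1 ∧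
    ev genA [0, 0, 5, 0, 0, 5] = 1 ∧ ev genA [1, 0, 5] = ev genA [0, 5, 1] ∧
    ev genA [0, 5] ≠ 1 ∧ (ev genA [0, 5]).IsUni ∧ (ev genA [1, 4]).IsUni ∧
    (ev genA [1, 4]).b ≠ 0 ∧ ev genA [1, 4, 0, 5, 4, 1, 5, 0] = tr 1 0 ∧
    ev genA [1, 1, 4, 0, 5, 4, 1, 5, 0, 1, 1, 4, 0, 5, 4, 1, 5, 0] = 1 := by decide +kernel

theorem stdB_rel : ev genB [1, 4, 0, 5, 4, 1, 5, 0] = tr 1 0 := by decide +kernel

end Cfsg.Agent.GL23Amalgam
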