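import Mathlib.Data.ZMod.Basic
import Mathlib.Algebra.Group.Defs
import Mathlib.Tactic

/-!
The affine maps of the plane over the field with three elements, and the generators of the two sides
of the `GL(2,3)` amalgam.
-/

set_option autoImplicit false

namespace Cfsg.Agent.GL23Amalgam

/-- The affine map `v ↦ (a b; c d) v + (p, q)`. -/
@[ext]
structure Aff where
  a : ZMod 3
  b : ZMod 3
  c : ZMod 3
  d : ZMod 3
  p : ZMod 3
  q : ZMod 3
deriving DecidableEq

namespace Aff

instance : Mul Aff :=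
  ⟨fun g h => ⟨g.a * h.a + g.b * h.c, g.a * h.b + g.b * h.d, g.c * h.a + g.d * h.c, g.c * h.b + g.d * h.d,
    g.a * h.p + g.b * h.q + g.p, g.c * h.p + g.d * h.q + g.q⟩⟩

instance : One Aff := ⟨⟨1, 0, 0, 1, 0, 0⟩⟩

theorem mul_def (g h : Aff) : g * h = ⟨g.a * h.a + g.b * h.c, g.a * h.b + g.b * h.d, g.c * h.a + g.d * h.c,
    g.c * h.b + g.d * h.d, g.a * h.p + g.b * h.q + g.p, g.c * h.p + g.d * h.q + g.q⟩ := rfl

theorem one_def : (1 : Aff) = ⟨1, 0, 0, 1, 0, 0⟩ := rfl

instance : Monoid Aff where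
  mul_assoc g h k := by ext <;> simp only [mul_def] <;> ring
  one_mul g := by ext <;> simp [mul_def, one_def]
  mul_one g := by ext <;> simp [mul_def, one_def]

/-- The determinant of the linear part. -/
def det (g : Aff) : ZMod 3 := g.a * g.d - g.b * g.c

/-- Invertible affine maps. -/
def OK (g : Aff) : Prop := g.det ≠ 0

instance : DecidablePred OK := fun g => inferInstanceAs (Decidable (g.det ≠ 0))

/-- The translation by `(p, q)`. -/
def tr (p q : ZMod 3) : Aff := ⟨1, 0, 0, 1, p, q⟩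

/-- The Borel subgroup: the linear part fixes the first axis. -/
def IsBorel (g : Aff) : Prop := g.c = 0

instance : DecidablePred IsBorel := fun g => inferInstanceAs (Decidable (g.c = 0))

/-- The upper unitriangular affine maps. -/
def IsUni (g : Aff) : Prop := g.a = 1 ∧ g.c = 0 ∧ g.d = 1

instance : DecidablePred IsUni := fun g => inferInstanceAs (Decidable (g.a = 1 ∧ g.c = 0 ∧ g.d = 1))

/-- All affine maps, for quantifiers decided by evaluation. -/
def all : List Aff :=
  let z : List (ZMod 3) := [0, 1, 2]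
  z.flatMap fun a => z.flatMap fun b => z.flatMap fun c => z.flatMap fun d => z.flatMap fun p => z.map fun q =>
    ⟨a, b, c, d, p, q⟩

theorem zmod3_mem (a : ZMod 3) : a ∈ ([0, 1, 2] : List (ZMod 3)) := by revert a; decide

theorem mem_all (g : Aff) : g ∈ all := by
  simp only [all, List.mem_flatMap, List.mem_map]
  exact ⟨g.a, zmod3_mem _, g.b, zmod3_mem _, g.c, zmod3_mem _, g.d, zmod3_mem _, g.p, zmod3_mem _,
    g.q, zmod3_mem _, rfl⟩

/-- The coordinates of an affine map. -/
def equivTuple : ZMod 3 × ZMod 3 × ZMod 3 × ZMod 3 × ZMod 3 × ZMod 3 ≃ Aff where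
  toFun t := ⟨t.1, t.2.1, t.2.2.1, t.2.2.2.1, t.2.2.2.2.1, t.2.2.2.2.2⟩
  invFun g := (g.a, g.b, g.c, g.d, g.p, g.q)
  left_inv _ := rfl
  right_inv _ := rfl

instance : Fintype Aff := Fintype.ofEquiv _ equivTuple

/-- A statement checked along the list of all maps. -/
theorem forall_of_all {P : Aff → Prop} [DecidablePred P] (h : all.all fun g => decide (P g) = true) :
    ∀ g, P g := fun g => of_decide_eq_true (by simpa using List.all_eq_true.1 h g (mem_all g))

end Aff

/-- The letters in the first side: `t, v, a, -, p = vx, r = te` (the fourth letter is not used). -/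
def genA : ℕ → Aff
  | 0 => ⟨2, 0, 0, 2, 0, 0⟩
  | 1 => ⟨2, 0, 0, 1, 0, 0⟩
  | 2 => ⟨0, 2, 2, 0, 0, 0⟩
  | 4 => ⟨2, 2, 0, 1, 0, 0⟩
  | 5 => ⟨2, 0, 0, 2, 0, 2⟩
  | _ => 1

/-- The letters in the second side: `t, v, -, b, p = vx, r = te` (the third letter is not used). -/
def genB : ℕ → Aff
  | 0 => ⟨2, 0, 0, 1, 0, 0⟩
  | 1 => ⟨2, 0, 0, 2, 0, 0⟩
  | 3 => ⟨0, 2, 2, 0, 0, 0⟩
  | 4 => ⟨2, 0, 0, 2, 0, 2⟩
  | 5 => ⟨2, 1, 0, 1, 0, 0⟩
  | _ => 1

/-- The letters of the first side. -/
def lettersA : List ℕ := [0, 1, 2, 4, 5]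

/-- The letters of the second side. -/
def lettersB : List ℕ := [0, 1, 3, 4, 5]

/-- The value of a word in a side. -/
def ev (gen : ℕ → Aff) (w : List ℕ) : Aff := (w.map gen).prod

end Cfsg.Agent.GL23Amalgam
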