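import Mathlib.GroupTheory.Index
import Cfsg.Agent.Lib.Compute.CosetBound
import Cfsg.Agent.Lib.GL23Amalgam.Model

/-!
The `GL(2,3)` amalgam in coordinates: six involutions generating the group and the two sides.
-/

set_option autoImplicit false

namespace Cfsg.Agent.GL23Amalgam

open CosetCert

variable {G : Type*} [Group G]

/-- The word `x`. -/
def wx : List ℕ := [1, 4]

/-- The word `x⁻¹`. -/
def wX : List ℕ := [4, 1]

/-- The word `e`. -/
def we : List ℕ := [0, 5]

/-- The word `z`, the commutator of `x` and `e`. -/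
def wz : List ℕ := [1, 4, 0, 5, 4, 1, 5, 0]

/-- The coordinate data of the amalgam. -/
structure Setup (G : Type*) [Group G] where
  gen : ℕ → G
  A : Subgroup G
  B : Subgroup G
  φA : A →* Aff
  φB : B →* Aff
  gen_inv : ∀ x, gen x * gen x = 1
  injA : Function.Injective φA
  injB : Function.Injective φB
  surjA : ∀ m : Aff, m.OK → ∃ g, φA g = m
  surjB : ∀ m : Aff, m.OK → ∃ g, φB g = m
  okA : ∀ g, (φA g).OK
  okB : ∀ g, (φB g).OK
  genA_spec : ∀ x ∈ lettersA, ∃ h : gen x ∈ A, φA ⟨gen x, h⟩ = genA x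
  genB_spec : ∀ x ∈ lettersB, ∃ h : gen x ∈ B, φB ⟨gen x, h⟩ = genB x
  borelA : ∀ g : A, (g : G) ∈ B ↔ (φA g).IsBorel
  borelB : ∀ g : B, (g : G) ∈ A ↔ (φB g).IsBorel
  normZ : ∀ g : G, g * wprod gen wz * g⁻¹ ∈ Subgroup.zpowers (wprod gen wz) → g ∈ A ⊓ B
  core : ∀ N : Subgroup G, N ≤ A ⊓ B → (∀ a ∈ A, N.map (MulAut.conj a).toMonoidHom = N) →
    (∀ b ∈ B, N.map (MulAut.conj b).toMonoidHom = N) → N = ⊥
  sup_eq : A ⊔ B = ⊤

/-- Every letter of the word is among the given ones. -/
def lettersIn (ls : List ℕ) (w : List ℕ) : Bool := w.all fun x => ls.contains x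

theorem ev_cons (g : ℕ → Aff) (x : ℕ) (w : List ℕ) : ev g (x :: w) = g x * ev g w := by simp [ev]

theorem ev_nil (g : ℕ → Aff) : ev g [] = 1 := rfl

namespace Setup

variable (S : Setup G)

theorem wprod_A : ∀ w : List ℕ, lettersIn lettersA w = true →
    ∃ h : wprod S.gen w ∈ S.A, S.φA ⟨wprod S.gen w, h⟩ = ev genA w := by
  intro w
  induction w with
  | nil => exact fun _ => ⟨by simp [wprod], (congrArg S.φA (Subtype.ext (by simp [wprod]))).trans (map_one _)⟩
  | cons x w ih =>
    intro hw
    simp only [lettersIn, List.all_cons, Bool.and_eq_true, List.contains_eq_mem, decide_eq_true_eq] at hw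
    obtain ⟨hx, hxv⟩ := S.genA_spec x hw.1
    obtain ⟨h, hv⟩ := ih (by simpa [lettersIn] using hw.2)
    refine ⟨by rw [wprod, List.map_cons, List.prod_cons]; exact mul_mem hx h, ?_⟩
    rw [ev_cons, ← hxv, ← hv, ← map_mul]
    exact congrArg S.φA (Subtype.ext (by simp [wprod]))

theorem wprod_B : ∀ w : List ℕ, lettersIn lettersB w = true →
    ∃ h : wprod S.gen w ∈ S.B, S.φB ⟨wprod S.gen w, h⟩ = ev genB w := by
  intro w
  induction w with
  | nil => exact fun _ => ⟨by simp [wprod], (congrArg S.φB (Subtype.ext (by simp [wprod]))).trans (map_one _)⟩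
  | cons x w ih =>
    intro hw
    simp only [lettersIn, List.all_cons, Bool.and_eq_true, List.contains_eq_mem, decide_eq_true_eq] at hw
    obtain ⟨hx, hxv⟩ := S.genB_spec x hw.1
    obtain ⟨h, hv⟩ := ih (by simpa [lettersIn] using hw.2)
    refine ⟨by rw [wprod, List.map_cons, List.prod_cons]; exact mul_mem hx h, ?_⟩
    rw [ev_cons, ← hxv, ← hv, ← map_mul]
    exact congrArg S.φB (Subtype.ext (by simp [wprod]))

/-- Equal values in the first side give equal elements. -/
theorem eqA {u v : List ℕ} (hu : lettersIn lettersA u = true) (hv : lettersIn lettersA v = true)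
    (h : ev genA u = ev genA v) : wprod S.gen u = wprod S.gen v := by
  obtain ⟨m1, e1⟩ := S.wprod_A u hu
  obtain ⟨m2, e2⟩ := S.wprod_A v hv
  exact congrArg Subtype.val (S.injA (e1.trans (h.trans e2.symm)))

/-- Equal values in the second side give equal elements. -/
theorem eqB {u v : List ℕ} (hu : lettersIn lettersB u = true) (hv : lettersIn lettersB v = true)
    (h : ev genB u = ev genB v) : wprod S.gen u = wprod S.gen v := by
  obtain ⟨m1, e1⟩ := S.wprod_B u hu
  obtain ⟨m2, e2⟩ := S.wprod_B v hv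
  exact congrArg Subtype.val (S.injB (e1.trans (h.trans e2.symm)))

/-- Different values in the first side give different elements. -/
theorem neA {u v : List ℕ} (hu : lettersIn lettersA u = true) (hv : lettersIn lettersA v = true)
    (h : ev genA u ≠ ev genA v) : wprod S.gen u ≠ wprod S.gen v := fun e => by
  obtain ⟨m1, e1⟩ := S.wprod_A u hu
  obtain ⟨m2, e2⟩ := S.wprod_A v hv
  exact h (e1.symm.trans ((congrArg S.φA (Subtype.ext e)).trans e2))

theorem card_A : Nat.card S.A = 432 := by
  have : Fintype.card {m : Aff // m.OK} = 432 := by decide +kernel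
  rw [Nat.card_eq_of_bijective (fun g => (⟨S.φA g, S.okA g⟩ : {m : Aff // m.OK}))
    ⟨fun a b h => S.injA (congrArg Subtype.val h), fun m => by
      obtain ⟨g, hg⟩ := S.surjA m.1 m.2; exact ⟨g, Subtype.ext hg⟩⟩,
    Nat.card_eq_fintype_card, this]

theorem finite_A : Finite S.A := Nat.finite_of_card_ne_zero (by rw [S.card_A]; norm_num)

end Setup

end Cfsg.Agent.GL23Amalgam
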