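import Mathlib.GroupTheory.Sylow
import Mathlib.LinearAlgebra.Matrix.GeneralLinearGroup.Card
import Cfsg.Agent.Lib.GL23Amalgam.Model

/-!
A group with a self-centralizing elementary abelian subgroup of order 9 with quotient `GL(2,3)` is the
affine group of the plane, in coordinates adapted to a given Sylow 3-subgroup.
-/

set_option autoImplicit false

set_option linter.style.haveILetI false

open scoped Pointwise

namespace Cfsg.Agent.GL23Amalgam

section pow

variable {Γ : Type*} [Group Γ]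

theorem pow_val_add {g : Γ} (h : g ^ 3 = 1) (i j : ZMod 3) : g ^ (i + j).val = g ^ i.val * g ^ j.val := by
  rw [← pow_add, ZMod.val_add, ← pow_eq_pow_mod _ h]

end pow

/-- Coordinates on an elementary abelian group of order 9. -/
structure Coord {Γ : Type*} [Group Γ] (Q : Subgroup Γ) where
  κ : ZMod 3 × ZMod 3 → Γ
  co : Γ → ZMod 3 × ZMod 3
  κ_mem : ∀ v, κ v ∈ Q
  co_κ : ∀ v, co (κ v) = v
  κ_co : ∀ q ∈ Q, κ (co q) = q
  κ_add : ∀ v w, κ (v + w) = κ v * κ w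

theorem val_sq_mod : ∀ j : ZMod 3, j ≠ 0 → j.val * j.val % 3 = 1 := by decide

theorem exists_coord {Γ : Type*} [Group Γ] [Finite Γ] {Q : Subgroup Γ} (hc : IsMulCommutative Q)
    (h3 : ∀ x ∈ Q, x ^ 3 = 1) (h9 : Nat.card Q = 9) : Nonempty (Coord Q) := by
  classical
  have hcomm : ∀ a ∈ Q, ∀ b ∈ Q, a * b = b * a := fun a ha b hb =>
    congrArg Subtype.val (hc.is_comm.comm ⟨a, ha⟩ ⟨b, hb⟩)
  obtain ⟨q₁, hq₁, hne₁⟩ : ∃ q ∈ Q, q ≠ 1 := by
    by_contra hcon
    push Not at hcon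
    have : Q = ⊥ := (Subgroup.eq_bot_iff_forall _).2 hcon
    rw [this] at h9
    simp at h9
  have ho₁ : orderOf q₁ = 3 := orderOf_eq_prime (h3 _ hq₁) hne₁
  obtain ⟨q₂, hq₂, hne₂⟩ : ∃ q ∈ Q, q ∉ Subgroup.zpowers q₁ := by
    by_contra hcon
    push Not at hcon
    have := Nat.card_le_card_of_injective (Subgroup.inclusion (fun q hq => hcon q hq : Q ≤ Subgroup.zpowers q₁))
      (Subgroup.inclusion_injective _)
    rw [h9, Nat.card_zpowers, ho₁] at this
    omega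
  let κ : ZMod 3 × ZMod 3 → Γ := fun v => q₁ ^ v.1.val * q₂ ^ v.2.val
  have hmem : ∀ v, κ v ∈ Q := fun v => mul_mem (pow_mem hq₁ _) (pow_mem hq₂ _)
  have hadd : ∀ v w, κ (v + w) = κ v * κ w := by
    intro v w
    show q₁ ^ (v.1 + w.1).val * q₂ ^ (v.2 + w.2).val = _
    rw [pow_val_add (h3 _ hq₁), pow_val_add (h3 _ hq₂)]
    calc q₁ ^ v.1.val * q₁ ^ w.1.val * (q₂ ^ v.2.val * q₂ ^ w.2.val)
        = q₁ ^ v.1.val * (q₁ ^ w.1.val * q₂ ^ v.2.val) * q₂ ^ w.2.val := by simp only [mul_assoc]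
      _ = q₁ ^ v.1.val * (q₂ ^ v.2.val * q₁ ^ w.1.val) * q₂ ^ w.2.val := by
          rw [hcomm _ (pow_mem hq₁ _) _ (pow_mem hq₂ _)]
      _ = κ v * κ w := by simp only [κ, mul_assoc]
  have hzero : ∀ v, κ v = 1 → v = 0 := by
    rintro ⟨i, j⟩ hv
    have hv' : q₁ ^ i.val * q₂ ^ j.val = 1 := hv
    have hj0 : j = 0 := by
      by_contra hj
      have h2 : q₂ ^ j.val ∈ Subgroup.zpowers q₁ := by
        rw [eq_inv_of_mul_eq_one_right hv']
        exact inv_mem (Subgroup.npow_mem_zpowers _ _)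
      have h4 : j.val * j.val % 3 = 1 := val_sq_mod j hj
      apply hne₂
      have := pow_mem h2 j.val
      rwa [← pow_mul, pow_eq_pow_mod _ (h3 _ hq₂), h4, pow_one] at this
    subst hj0
    rw [ZMod.val_zero, pow_zero, mul_one] at hv'
    have h5 : (3 : ℕ) ∣ i.val := by
      have h7 := orderOf_dvd_of_pow_eq_one hv'
      rwa [ho₁] at h7
    have h6 : i.val < 3 := ZMod.val_lt i
    have : i.val = 0 := by omega
    exact Prod.ext ((ZMod.val_eq_zero i).1 this) rfl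
  let F : ZMod 3 × ZMod 3 → Q := fun v => ⟨κ v, hmem v⟩
  have hinj : Function.Injective F := fun v w e => by
    have e' : κ v = κ w := congrArg Subtype.val e
    have h := hadd (v - w) w
    rw [sub_add_cancel, e'] at h
    exact sub_eq_zero.1 (hzero _ (mul_right_cancel (h.symm.trans (one_mul _).symm)))
  have hsurj : Function.Surjective F :=
    (Function.Injective.bijective_of_nat_card_le hinj (by simp [h9])).2
  refine ⟨⟨κ, Function.invFun κ, hmem, ?_, ?_, hadd⟩⟩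
  · intro v
    exact Function.leftInverse_invFun (fun a b e => hinj (Subtype.ext e)) v
  · intro q hq
    obtain ⟨v, hv⟩ := hsurj ⟨q, hq⟩
    exact Function.invFun_eq ⟨v, congrArg Subtype.val hv⟩

namespace Coord

variable {Γ : Type*} [Group Γ] {Q : Subgroup Γ} (K : Coord Q)

theorem co_mul {a b : Γ} (ha : a ∈ Q) (hb : b ∈ Q) : K.co (a * b) = K.co a + K.co b := by
  conv_lhs => rw [← K.κ_co a ha, ← K.κ_co b hb, ← K.κ_add]
  exact K.co_κ _

variable [Q.Normal]

/-- Conjugation in coordinates. -/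
def act (g : Γ) : ZMod 3 × ZMod 3 →+ ZMod 3 × ZMod 3 :=
  AddMonoidHom.mk' (fun v => K.co (g * K.κ v * g⁻¹)) fun v w => by
    rw [K.κ_add, ← K.co_mul (Subgroup.Normal.conj_mem inferInstance _ (K.κ_mem v) g)
      (Subgroup.Normal.conj_mem inferInstance _ (K.κ_mem w) g)]
    congr 1
    group

theorem act_apply (g : Γ) (v : ZMod 3 × ZMod 3) : K.act g v = K.co (g * K.κ v * g⁻¹) := rfl

theorem κ_act (g : Γ) (v : ZMod 3 × ZMod 3) : K.κ (K.act g v) = g * K.κ v * g⁻¹ :=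
  K.κ_co _ (Subgroup.Normal.conj_mem inferInstance _ (K.κ_mem v) g)

theorem act_mul (g h : Γ) (v : ZMod 3 × ZMod 3) : K.act (g * h) v = K.act g (K.act h v) := by
  rw [act_apply, act_apply K g, K.κ_act]
  congr 1
  group

theorem act_formula (g : Γ) (v : ZMod 3 × ZMod 3) : K.act g v =
    ((K.act g (1, 0)).1 * v.1 + (K.act g (0, 1)).1 * v.2,
      (K.act g (1, 0)).2 * v.1 + (K.act g (0, 1)).2 * v.2) := by
  obtain ⟨i, j⟩ := v
  have key : ∀ i j : ZMod 3, ((i, j) : ZMod 3 × ZMod 3) =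
      i.val • ((1, 0) : ZMod 3 × ZMod 3) + j.val • ((0, 1) : ZMod 3 × ZMod 3) := by decide
  conv_lhs => rw [key i j]
  rw [map_add, map_nsmul, map_nsmul]
  ext <;> simp [ZMod.natCast_zmod_val, mul_comm]

/-- The linear part, as an affine map. -/
def lin (g : Γ) : Aff :=
  ⟨(K.act g (1, 0)).1, (K.act g (0, 1)).1, (K.act g (1, 0)).2, (K.act g (0, 1)).2, 0, 0⟩

theorem lin_mul (g h : Γ) : K.lin (g * h) = K.lin g * K.lin h := by
  simp only [lin, K.act_mul, K.act_formula g (K.act h _), Aff.mul_def]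
  ext <;> simp

theorem lin_one : K.lin 1 = 1 := by
  have : ∀ v, K.act 1 v = v := fun v => by rw [act_apply, one_mul, inv_one, mul_one, K.co_κ]
  simp only [lin, this]
  rfl

theorem mem_centralizer_of_lin (g : Γ) (h : K.lin g = 1) : g ∈ Subgroup.centralizer (Q : Set Γ) := by
  rw [Subgroup.mem_centralizer_iff]
  intro q hq
  simp only [lin, Aff.one_def, Aff.mk.injEq] at h
  obtain ⟨h1, h2, h3, h4, -⟩ := h
  have e := K.act_formula g (K.co q)
  rw [h1, h2, h3, h4] at e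
  simp only [zero_mul, one_mul, add_zero, zero_add, Prod.mk.eta] at e
  have e2 := K.κ_act g (K.co q)
  rw [e, K.κ_co q hq] at e2
  exact (mul_inv_eq_iff_eq_mul.1 e2.symm).symm

theorem lin_of_mem (hc : IsMulCommutative Q) {g : Γ} (hg : g ∈ Q) : K.lin g = 1 := by
  have : ∀ v, K.act g v = v := fun v => by
    have hcom : g * K.κ v = K.κ v * g := congrArg Subtype.val (hc.is_comm.comm ⟨g, hg⟩ ⟨K.κ v, K.κ_mem v⟩)
    rw [act_apply, hcom, mul_inv_cancel_right, K.co_κ]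
  simp only [lin, this]
  rfl

end Coord

theorem det_mul (g h : Aff) : (g * h).det = g.det * h.det := by
  simp only [Aff.det, Aff.mul_def]
  ring

theorem ok_of_mul_eq_one {g h : Aff} (e : g * h = 1) : g.OK := by
  intro h0
  have := det_mul g h
  rw [e, h0, zero_mul] at this
  exact absurd this (by decide)

theorem negI_ok : (⟨2, 0, 0, 2, 0, 0⟩ : Aff).OK := by decide

theorem negI_sq : (⟨2, 0, 0, 2, 0, 0⟩ : Aff) * ⟨2, 0, 0, 2, 0, 0⟩ = 1 := by decide

theorem negI_conj : ∀ m : Aff, (⟨2, 0, 0, 2, 0, 0⟩ : Aff) * m * ⟨2, 0, 0, 2, 0, 0⟩ =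
    ⟨m.a, m.b, m.c, m.d, 2 * m.p, 2 * m.q⟩ :=
  Aff.forall_of_all (by decide +kernel)

theorem double (i j : ZMod 3) : ((2 * i + 0 * j, 0 * i + 2 * j) : ZMod 3 × ZMod 3) = (i, j) + (i, j) := by
  revert i j; decide

theorem card_lin : Fintype.card {m : Aff // m.OK ∧ m.p = 0 ∧ m.q = 0} = 48 := by decide +kernel

theorem card_ok : Fintype.card {m : Aff // m.OK} = 432 := by decide +kernel

theorem card_uni : Fintype.card {m : Aff // m.IsUni} = 27 := by decide +kernel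

variable {Γ : Type*} [Group Γ] [Finite Γ]

/-- The affine group: an injective map onto the invertible affine maps, translations coming from `Q`. -/
theorem exists_affine (Q : Subgroup Γ) [Q.Normal] (hc : IsMulCommutative Q) (h3 : ∀ x ∈ Q, x ^ 3 = 1)
    (h9 : Nat.card Q = 9) (hC : Subgroup.centralizer (Q : Set Γ) = Q)
    (e : Γ ⧸ Q ≃* GL (Fin 2) (ZMod 3)) :
    ∃ ψ : Γ →* Aff, Function.Injective ψ ∧ (∀ m : Aff, m.OK → ∃ g, ψ g = m) ∧ (∀ g, (ψ g).OK) ∧
      (∀ g, g ∈ Q ↔ (ψ g).a = 1 ∧ (ψ g).b = 0 ∧ (ψ g).c = 0 ∧ (ψ g).d = 1) := by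
  haveI : Fact (Nat.Prime 3) := ⟨Nat.prime_three⟩
  obtain ⟨K⟩ := exists_coord hc h3 h9
  let L : Γ →* Aff := ⟨⟨K.lin, K.lin_one⟩, K.lin_mul⟩
  have hLok : ∀ g, (L g).OK ∧ (L g).p = 0 ∧ (L g).q = 0 := fun g =>
    ⟨ok_of_mul_eq_one (h := L g⁻¹) (by rw [← map_mul, mul_inv_cancel, map_one]), rfl, rfl⟩
  have hGL : Nat.card (GL (Fin 2) (ZMod 3)) = 48 := by
    rw [Matrix.card_GL_field]
    simp [Fin.prod_univ_two]
  have hcard : Nat.card Γ = 432 := by
    rw [Subgroup.card_eq_card_quotient_mul_card_subgroup Q, Nat.card_congr e.toEquiv, hGL, h9]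
  let F : Γ ⧸ Q → {m : Aff // m.OK ∧ m.p = 0 ∧ m.q = 0} := fun x =>
    Quotient.liftOn' x (fun g => ⟨L g, hLok g⟩) fun a b hab => by
      have h := QuotientGroup.leftRel_apply.1 hab
      refine Subtype.ext ?_
      show L a = L b
      rw [show b = a * (a⁻¹ * b) by group, map_mul, show L (a⁻¹ * b) = 1 from K.lin_of_mem hc h, mul_one]
  have hFinj : Function.Injective F := by
    intro x y
    induction x using QuotientGroup.induction_on with
    | H a =>
      induction y using QuotientGroup.induction_on with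
      | H b =>
        intro h
        have h' : L a = L b := congrArg Subtype.val h
        refine QuotientGroup.eq.2 ?_
        have hm : a⁻¹ * b ∈ Subgroup.centralizer (Q : Set Γ) := K.mem_centralizer_of_lin _ (by
          show L (a⁻¹ * b) = 1
          rw [map_mul, ← h', ← map_mul, inv_mul_cancel, map_one])
        rwa [hC] at hm
  have hFsurj : Function.Surjective F :=
    (Function.Injective.bijective_of_nat_card_le hFinj (le_of_eq (by
      rw [Nat.card_congr e.toEquiv, hGL, Nat.card_eq_fintype_card, card_lin]))).2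
  have hsurj : ∀ m : Aff, m.OK → m.p = 0 → m.q = 0 → ∃ g, L g = m := fun m h1 h2 h4 => by
    obtain ⟨x, hx⟩ := hFsurj ⟨m, h1, h2, h4⟩
    induction x using QuotientGroup.induction_on with
    | H a => exact ⟨a, congrArg Subtype.val hx⟩
  obtain ⟨t, ht⟩ := hsurj ⟨2, 0, 0, 2, 0, 0⟩ negI_ok rfl rfl
  have hneg : ∀ q ∈ Q, t * q * t⁻¹ = q⁻¹ := fun q hq => by
    have ht' : K.lin t = ⟨2, 0, 0, 2, 0, 0⟩ := ht
    simp only [Coord.lin, Aff.mk.injEq] at ht'
    obtain ⟨a1, a2, a3, a4, -⟩ := ht'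
    have e1 := K.κ_act t (K.co q)
    rw [K.act_formula, a1, a2, a3, a4, K.κ_co q hq] at e1
    rw [double, Prod.mk.eta, K.κ_add, K.κ_co q hq] at e1
    rw [← e1]
    exact eq_inv_of_mul_eq_one_right (by rw [← pow_three, h3 q hq])
  have ht2Q : t * t ∈ Q := by
    rw [← hC]
    refine K.mem_centralizer_of_lin _ ?_
    show L (t * t) = 1
    rw [map_mul, ht, negI_sq]
  have ht2 : t * t = 1 := by
    have h1 := hneg _ ht2Q
    rw [show t * (t * t) * t⁻¹ = t * t by group] at h1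
    have h2 := h3 _ ht2Q
    rw [pow_three, show t * t * (t * t) = 1 from mul_eq_one_iff_eq_inv.2 h1, mul_one] at h2
    exact h2
  have htinv : t⁻¹ = t := inv_eq_of_mul_eq_one_right ht2
  have hτ : ∀ g, t * g * t⁻¹ * g⁻¹ ∈ Q := fun g => by
    rw [← hC]
    refine K.mem_centralizer_of_lin _ ?_
    show L (t * g * t⁻¹ * g⁻¹) = 1
    rw [map_mul, map_mul, map_mul, htinv, ht]
    rw [negI_conj, (hLok g).2.1, (hLok g).2.2, mul_zero]
    show L g * L g⁻¹ = 1
    rw [← map_mul, mul_inv_cancel, map_one]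
  let ψ : Γ →* Aff :=
    { toFun := fun g => ⟨(L g).a, (L g).b, (L g).c, (L g).d, (K.co (t * g * t⁻¹ * g⁻¹)).1,
          (K.co (t * g * t⁻¹ * g⁻¹)).2⟩
      map_one' := by
        have h0 : K.co (1 : Γ) = 0 := by simpa using K.co_mul Q.one_mem Q.one_mem
        simp [h0, Aff.one_def]
      map_mul' := fun g h => by
        have e1 : t * (g * h) * t⁻¹ * (g * h)⁻¹ =
            (t * g * t⁻¹ * g⁻¹) * (g * (t * h * t⁻¹ * h⁻¹) * g⁻¹) := by group
        have e2 : K.co (t * (g * h) * t⁻¹ * (g * h)⁻¹) =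
            K.co (t * g * t⁻¹ * g⁻¹) + K.act g (K.co (t * h * t⁻¹ * h⁻¹)) := by
          rw [e1, K.co_mul (hτ g) (Subgroup.Normal.conj_mem inferInstance _ (hτ h) g), Coord.act_apply,
            K.κ_co _ (hτ h)]
        rw [e2, K.act_formula, map_mul]
        simp only [Aff.mul_def, Prod.fst_add, Prod.snd_add]
        ext <;> simp [L, Coord.lin] <;> ring }
  have hlin : ∀ g, (ψ g).a = 1 → (ψ g).b = 0 → (ψ g).c = 0 → (ψ g).d = 1 → g ∈ Q := fun g h1 h2 h4 h5 => by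
    rw [← hC]
    exact K.mem_centralizer_of_lin _ (Aff.ext h1 h2 h4 h5 rfl rfl)
  have hψinj : Function.Injective ψ := by
    refine (injective_iff_map_eq_one ψ).2 fun g hg => ?_
    have hgQ : g ∈ Q := hlin g (by rw [hg]; rfl) (by rw [hg]; rfl) (by rw [hg]; rfl) (by rw [hg]; rfl)
    have h0 : K.co (t * g * t⁻¹ * g⁻¹) = 0 := Prod.ext (congrArg Aff.p hg) (congrArg Aff.q hg)
    have h1 := K.κ_co _ (hτ g)
    rw [h0, hneg g hgQ] at h1
    have h2 : K.κ 0 = 1 := by simpa using K.κ_add 0 0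
    rw [h2] at h1
    have h4 := h3 g hgQ
    rwa [pow_three, show g * g = 1 by rw [← inv_inj, mul_inv_rev, inv_one, h1], mul_one] at h4
  have hψok : ∀ g, (ψ g).OK := fun g => (hLok g).1
  refine ⟨ψ, hψinj, ?_, hψok, fun g => ⟨fun h => ?_, fun h => hlin g h.1 h.2.1 h.2.2.1 h.2.2.2⟩⟩
  · let F2 : Γ → {m : Aff // m.OK} := fun g => ⟨ψ g, hψok g⟩
    have h2 := (Function.Injective.bijective_of_nat_card_le (f := F2)
      (fun a b h => hψinj (congrArg Subtype.val h))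
      (le_of_eq (by rw [hcard, Nat.card_eq_fintype_card, card_ok]))).2
    intro m hm
    obtain ⟨g, hg⟩ := h2 ⟨m, hm⟩
    exact ⟨g, congrArg Subtype.val hg⟩
  · have hL : L g = 1 := K.lin_of_mem hc h
    show (L g).a = 1 ∧ (L g).b = 0 ∧ (L g).c = 0 ∧ (L g).d = 1
    rw [hL]
    exact ⟨rfl, rfl, rfl, rfl⟩

/-- The coordinates can be chosen so that a given Sylow 3-subgroup is upper unitriangular. -/
theorem exists_affine_sylow (Q : Subgroup Γ) [Q.Normal] (hc : IsMulCommutative Q) (h3 : ∀ x ∈ Q, x ^ 3 = 1)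
    (h9 : Nat.card Q = 9) (hC : Subgroup.centralizer (Q : Set Γ) = Q)
    (e : Γ ⧸ Q ≃* GL (Fin 2) (ZMod 3)) (P : Sylow 3 Γ) :
    ∃ ψ : Γ →* Aff, Function.Injective ψ ∧ (∀ m : Aff, m.OK → ∃ g, ψ g = m) ∧ (∀ g, (ψ g).OK) ∧
      (∀ g, g ∈ Q ↔ (ψ g).a = 1 ∧ (ψ g).b = 0 ∧ (ψ g).c = 0 ∧ (ψ g).d = 1) ∧
      (∀ g, g ∈ (P : Subgroup Γ) ↔ (ψ g).IsUni) := by
  haveI : Fact (Nat.Prime 3) := ⟨Nat.prime_three⟩
  obtain ⟨ψ, hinj, hsurj, hok, hQ⟩ := exists_affine Q hc h3 h9 hC e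
  have hinv : ∀ m n : Aff, m.IsUni → n * m = 1 → n.IsUni := by
    rintro ⟨a, b, c, d, p, q⟩ ⟨a', b', c', d', p', q'⟩ ⟨h1, h2, h4⟩ h
    simp only at h1 h2 h4
    subst h1 h2 h4
    simp [Aff.mul_def, Aff.one_def] at h
    obtain ⟨e1, -, e2, e3, -⟩ := h
    refine ⟨e1, e2, ?_⟩
    simpa [e2] using e3
  let P₀ : Subgroup Γ :=
    { carrier := {g | (ψ g).IsUni}
      one_mem' := by
        show (ψ 1).IsUni
        rw [map_one]; decide
      mul_mem' := by
        rintro g h ⟨g1, g2, g3⟩ ⟨h1, h2, h4⟩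
        show (ψ (g * h)).IsUni
        rw [map_mul]
        simp only [Aff.mul_def, Aff.IsUni, g1, g2, g3, h1, h2, h4]
        refine ⟨?_, ?_, ?_⟩ <;> simp
      inv_mem' := fun {g} hg => hinv _ _ hg (by rw [← map_mul, inv_mul_cancel, map_one]) }
  have h27 : Nat.card P₀ = 27 := by
    let F3 : P₀ → {m : Aff // m.IsUni} := fun g => ⟨ψ g, g.2⟩
    have hb : Function.Bijective F3 := by
      refine ⟨fun a b h => Subtype.ext (hinj (congrArg Subtype.val h)), fun m => ?_⟩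
      obtain ⟨g, hg⟩ := hsurj m.1 (by
        obtain ⟨h1, h2, h4⟩ := m.2
        simp [Aff.OK, Aff.det, h1, h2, h4])
      exact ⟨⟨g, by show (ψ g).IsUni; rw [hg]; exact m.2⟩, Subtype.ext hg⟩
    rw [Nat.card_eq_of_bijective F3 hb, Nat.card_eq_fintype_card, card_uni]
  have hcard : Nat.card Γ = 432 := by
    rw [Nat.card_eq_of_bijective (fun g => (⟨ψ g, hok g⟩ : {m : Aff // m.OK}))
      ⟨fun a b h => hinj (congrArg Subtype.val h), fun m => by
        obtain ⟨g, hg⟩ := hsurj m.1 m.2; exact ⟨g, Subtype.ext hg⟩⟩,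
      Nat.card_eq_fintype_card, card_ok]
  have hfac : (Nat.card Γ).factorization 3 = 3 := by
    rw [hcard, show (432 : ℕ) = 3 ^ 3 * 16 by norm_num,
      Nat.factorization_mul (by norm_num) (by norm_num), Nat.Prime.factorization_pow Nat.prime_three]
    simp [Nat.factorization_eq_zero_of_not_dvd (show ¬ (3 ∣ 16) by norm_num)]
  let S₀ : Sylow 3 Γ := Sylow.ofCard P₀ (by rw [h27, hfac]; norm_num)
  obtain ⟨g₀, hg₀⟩ := MulAction.exists_smul_eq Γ P S₀
  refine ⟨ψ.comp (MulAut.conj g₀).toMonoidHom, hinj.comp (MulAut.conj g₀).injective, ?_,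
    fun g => hok _, ?_, ?_⟩
  · intro m hm
    obtain ⟨g, hg⟩ := hsurj m hm
    exact ⟨g₀⁻¹ * g * g₀, by
      show ψ (g₀ * (g₀⁻¹ * g * g₀) * g₀⁻¹) = m
      rw [show g₀ * (g₀⁻¹ * g * g₀) * g₀⁻¹ = g by group, hg]⟩
  · intro g
    rw [show g ∈ Q ↔ g₀ * g * g₀⁻¹ ∈ Q from ⟨fun h => Subgroup.Normal.conj_mem inferInstance _ h _,
      fun h => by simpa [mul_assoc] using Subgroup.Normal.conj_mem (inferInstance : Q.Normal) _ h g₀⁻¹⟩]
    exact hQ _
  · intro g
    have : g ∈ (P : Subgroup Γ) ↔ g₀ * g * g₀⁻¹ ∈ P₀ := by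
      have h := congrArg (fun S : Sylow 3 Γ => (S : Subgroup Γ)) hg₀
      simp only [Sylow.coe_subgroup_smul] at h
      rw [show P₀ = MulAut.conj g₀ • (P : Subgroup Γ) from h.symm,
        show g₀ * g * g₀⁻¹ = MulAut.conj g₀ • g from rfl, Subgroup.smul_mem_pointwise_smul_iff]
    exact this

end Cfsg.Agent.GL23Amalgam
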