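import Cfsg.Prelude.Def_CaseTheorems
import Cfsg.Agent.Lib.GL23Amalgam.Side
import Cfsg.Agent.Lib.GL23Amalgam.Setup
import Cfsg.Agent.Lib.GL23Amalgam.BuildFacts

/-!
From the abstract hypotheses to the coordinate data of the amalgam.
-/

set_option autoImplicit false
set_option linter.style.haveILetI false

namespace Cfsg.Agent.GL23Amalgam

open Aff CosetCert

variable {G : Type*} [Group G]

/-- The coordinates of one side. -/
structure SideData (A B : Subgroup G) (SG : Subgroup G) where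
  φ : A →* Aff
  inj : Function.Injective φ
  surj : ∀ m : Aff, m.OK → ∃ g, φ g = m
  ok : ∀ g, (φ g).OK
  core_spec : ∀ g, g ∈ Cfsg.pCore 3 A ↔ (φ g).a = 1 ∧ (φ g).b = 0 ∧ (φ g).c = 0 ∧ (φ g).d = 1
  sylow_spec : ∀ g : A, (g : G) ∈ SG ↔ (φ g).IsUni

theorem card_lastOK : Fintype.card {m : Aff // m.OK} = 432 := by decide +kernel

variable {A B SG : Subgroup G}

theorem SideData.card (D : SideData A B SG) : Nat.card A = 432 := by
  rw [Nat.card_eq_of_bijective (fun g => (⟨D.φ g, D.ok g⟩ : {m : Aff // m.OK}))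
    ⟨fun a b h => D.inj (congrArg Subtype.val h), fun m => by
      obtain ⟨g, hg⟩ := D.surj m.1 m.2; exact ⟨g, Subtype.ext hg⟩⟩, Nat.card_eq_fintype_card, card_lastOK]

theorem exists_side [Finite G] (A B : Subgroup G) (hSyl : ¬ 3 ∣ ((A ⊓ B).subgroupOf A).index)
    (eA : A ⧸ Cfsg.pCore 3 A ≃* GL (Fin 2) (ZMod 3))
    (hO : IsMulCommutative (Cfsg.pCore 3 A) ∧ (∀ x ∈ Cfsg.pCore 3 A, x ^ 3 = 1) ∧
      Nat.card (Cfsg.pCore 3 A) = 9 ∧
      Subgroup.centralizer ((Cfsg.pCore 3 A : Subgroup A) : Set A) = Cfsg.pCore 3 A)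
    (S : Sylow 3 ↥(A ⊓ B)) :
    Nonempty (SideData A B ((S : Subgroup ↥(A ⊓ B)).map (A ⊓ B).subtype)) := by
  haveI : Fact (Nat.Prime 3) := ⟨Nat.prime_three⟩
  obtain ⟨hc, h3, h9, hC⟩ := hO
  obtain ⟨ψ, hinj, hsurj, hok, -⟩ := exists_affine _ hc h3 h9 hC eA
  have hcard : Nat.card A = 432 := by
    rw [Nat.card_eq_of_bijective (fun g => (⟨ψ g, hok g⟩ : {m : Aff // m.OK}))
      ⟨fun a b h => hinj (congrArg Subtype.val h), fun m => by
        obtain ⟨g, hg⟩ := hsurj m.1 m.2; exact ⟨g, Subtype.ext hg⟩⟩, Nat.card_eq_fintype_card, card_lastOK]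
  set SG := (S : Subgroup ↥(A ⊓ B)).map (A ⊓ B).subtype with hSG
  have hSA : SG ≤ A := (Subgroup.map_subtype_le _).trans inf_le_left
  have h16 : ¬ (3 ∣ 16) := by norm_num
  have hfac : (432 : ℕ).factorization 3 = 3 := by
    rw [show (432 : ℕ) = 3 ^ 3 * 16 by norm_num,
      Nat.factorization_mul (by norm_num) (by norm_num), Nat.Prime.factorization_pow Nat.prime_three]
    simp [Nat.factorization_eq_zero_of_not_dvd h16]
  have hS27 : Nat.card (SG.subgroupOf A) = 3 ^ (Nat.card A).factorization 3 := by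
    rw [Nat.card_congr (Subgroup.subgroupOfEquivOfLe hSA).toEquiv, hSG,
      ← Nat.card_congr (Subgroup.equivMapOfInjective _ _ (A ⊓ B).subtype_injective).toEquiv,
      Sylow.card_eq_multiplicity]
    congr 1
    have h1 : Nat.card ↥(A ⊓ B) * ((A ⊓ B).subgroupOf A).index = Nat.card A := by
      rw [← Nat.card_congr (Subgroup.subgroupOfEquivOfLe (inf_le_left : A ⊓ B ≤ A)).toEquiv]
      exact Subgroup.card_mul_index _
    rw [← h1, Nat.factorization_mul Nat.card_pos.ne' (fun h0 => hSyl (by rw [h0]; exact dvd_zero 3)),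
      Finsupp.add_apply, Nat.factorization_eq_zero_of_not_dvd hSyl, add_zero]
  obtain ⟨ψ', i1, i2, i3, i4, i5⟩ :=
    exists_affine_sylow _ hc h3 h9 hC eA (Sylow.ofCard _ hS27)
  exact ⟨⟨ψ', i1, i2, i3, i4, fun g => by
    rw [← i5, Sylow.coe_ofCard, Subgroup.mem_subgroupOf]⟩⟩

/-- The subgroup `Z(S)` seen from one side. -/
theorem SideData.centre_spec (D : SideData A B SG) (hle : SG ≤ A) (g : A) :
    ((g : G) ∈ SG ∧ ∀ h ∈ SG, h * (g : G) = (g : G) * h) ↔ ∃ p, D.φ g = tr p 0 := by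
  constructor
  · rintro ⟨hg, hc⟩
    have hu := (D.sylow_spec g).1 hg
    have key : ∀ m : Aff, m.IsUni → m.OK → D.φ g * m = m * D.φ g := fun m hm hmo => by
      obtain ⟨k, rfl⟩ := D.surj m hmo
      rw [← map_mul, ← map_mul]
      exact congrArg D.φ (Subtype.ext (hc _ ((D.sylow_spec k).2 hm)).symm)
    obtain ⟨h1, h2⟩ := centre_uni _ hu (key _ (by decide) (by decide)) (key (tr 0 1) (by decide) (by decide))
    exact ⟨(D.φ g).p, Aff.ext hu.1 h1 hu.2.1 hu.2.2 rfl h2⟩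
  · rintro ⟨p, hp⟩
    refine ⟨(D.sylow_spec g).2 (by rw [hp]; exact ⟨rfl, rfl, rfl⟩), fun h hh => ?_⟩
    have h2 := uni_centre _ ((D.sylow_spec ⟨h, hle hh⟩).1 hh) p
    rw [← hp, ← map_mul, ← map_mul] at h2
    exact congrArg Subtype.val (D.inj h2)

theorem inv_borel {m n : Aff} (hm : m.IsBorel) (h : n * m = 1) : n.IsBorel := by
  have h1 := congrArg Aff.c h
  have h2 := congrArg Aff.a h
  simp only [Aff.mul_def, Aff.one_def] at h1 h2
  have hc : m.c = 0 := hm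
  rw [hc, mul_zero, add_zero] at h1 h2
  rcases mul_eq_zero.1 h1 with h3 | h3
  · exact h3
  · rw [h3, mul_zero] at h2
    exact absurd h2 (by decide)

/-- The Borel subgroup of one side is the intersection. -/
theorem SideData.borel_spec [Finite G] (D : SideData A B SG) (hle : SG ≤ A ⊓ B) (hcardB : Nat.card B = 432)
    (hne : A ≠ B) {Z : Subgroup G} (hZ : ∀ g, g ∈ Z ↔ g ∈ SG ∧ ∀ h ∈ SG, h * g = g * h)
    (hNZ : Subgroup.normalizer (Z : Set G) ≤ A ⊓ B) (g : A) : (g : G) ∈ B ↔ (D.φ g).IsBorel := by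
  have hconj : ∀ g : A, (D.φ g).IsBorel → ∀ n ∈ Z, (g : G) * n * (g : G)⁻¹ ∈ Z := by
    intro g hg n hn
    have hnA : n ∈ A := (hle ((hZ n).1 hn).1).1
    obtain ⟨p, hp⟩ := (D.centre_spec (hle.trans inf_le_left) ⟨n, hnA⟩).1 ((hZ n).1 hn)
    refine (hZ _).2 ((D.centre_spec (hle.trans inf_le_left) (g * ⟨n, hnA⟩ * g⁻¹)).2 ⟨(D.φ g).a * p, ?_⟩)
    rw [map_mul, map_mul, hp, borel_conj _ hg p, mul_assoc, ← map_mul, mul_inv_cancel, map_one, mul_one]
  have hle' : ∀ g : A, (D.φ g).IsBorel → (g : G) ∈ A ⊓ B := fun g hg => by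
    refine hNZ (Subgroup.mem_set_normalizer_iff.2 fun n => ⟨hconj g hg n, fun h => ?_⟩)
    have hg' : (D.φ g⁻¹).IsBorel := inv_borel hg (by rw [← map_mul, inv_mul_cancel, map_one])
    have h2 := hconj g⁻¹ hg' _ h
    simpa [mul_assoc] using h2
  refine ⟨fun hgB => ?_, fun hg => (hle' g hg).2⟩
  by_contra hc
  obtain ⟨he, h1, h2, h3, h4⟩ := bruhat _ (D.ok g) hc
  obtain ⟨l, hl⟩ := D.surj _ h2
  obtain ⟨r, hr⟩ := D.surj _ h4
  have hlrB : ((l * g * r : A) : G) ∈ B := by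
    push_cast
    exact mul_mem (mul_mem (hle' l (by rw [hl]; exact h1)).2 hgB) (hle' r (by rw [hr]; exact h3)).2
  have hlr : D.φ (l * g * r) = genA 2 := by rw [map_mul, map_mul, hl, hr, he]
  have hall : ∀ k : A, (k : G) ∈ B := by
    intro k
    by_contra hk
    have hkc : ¬ (D.φ k).IsBorel := fun h => hk (hle' k h).2
    obtain ⟨he', h1', h2', h3', h4'⟩ := bruhat _ (D.ok k) hkc
    obtain ⟨l', hl'⟩ := D.surj _ h2'
    obtain ⟨r', hr'⟩ := D.surj _ h4'
    have e : l * g * r = l' * k * r' := D.inj (by rw [hlr, map_mul, map_mul, hl', hr', he'])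
    apply hk
    rw [show k = l'⁻¹ * (l * g * r) * r'⁻¹ by rw [e]; group]
    simp only [Subgroup.coe_mul, Subgroup.coe_inv] at hlrB ⊢
    exact mul_mem (mul_mem (inv_mem (hle' l' (by rw [hl']; exact h1')).2) hlrB)
      (inv_mem (hle' r' (by rw [hr']; exact h3')).2)
  exact hne (Subgroup.eq_of_le_of_card_ge (fun x hx => hall ⟨x, hx⟩) (le_of_eq (hcardB.trans D.card.symm)))

/-- The six letters, extended by `1`. -/
def lettersFn (t v a b p r : G) : ℕ → G
  | 0 => t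
  | 1 => v
  | 2 => a
  | 3 => b
  | 4 => p
  | 5 => r
  | _ => 1

theorem exists_setup [Finite G] (A B : Subgroup G) (hgen : A ⊔ B = ⊤)
    (hSylA : ¬ 3 ∣ ((A ⊓ B).subgroupOf A).index) (hSylB : ¬ 3 ∣ ((A ⊓ B).subgroupOf B).index)
    (hcore : ∀ N : Subgroup G, N ≤ A ⊓ B → (∀ a ∈ A, N.map (MulAut.conj a).toMonoidHom = N) →
      (∀ b ∈ B, N.map (MulAut.conj b).toMonoidHom = N) → N = ⊥)
    (eA : A ⧸ Cfsg.pCore 3 A ≃* GL (Fin 2) (ZMod 3)) (eB : B ⧸ Cfsg.pCore 3 B ≃* GL (Fin 2) (ZMod 3))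
    (hOA : IsMulCommutative (Cfsg.pCore 3 A) ∧ (∀ x ∈ Cfsg.pCore 3 A, x ^ 3 = 1) ∧
      Nat.card (Cfsg.pCore 3 A) = 9 ∧
      Subgroup.centralizer ((Cfsg.pCore 3 A : Subgroup A) : Set A) = Cfsg.pCore 3 A)
    (hOB : IsMulCommutative (Cfsg.pCore 3 B) ∧ (∀ x ∈ Cfsg.pCore 3 B, x ^ 3 = 1) ∧
      Nat.card (Cfsg.pCore 3 B) = 9 ∧
      Subgroup.centralizer ((Cfsg.pCore 3 B : Subgroup B) : Set B) = Cfsg.pCore 3 B)
    (S : Sylow 3 ↥(A ⊓ B)) (Z : Subgroup G)
    (hZ : Z = ((S : Subgroup ↥(A ⊓ B)) ⊓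
      Subgroup.centralizer ((S : Subgroup ↥(A ⊓ B)) : Set ↥(A ⊓ B))).map (A ⊓ B).subtype)
    (hNZ : Subgroup.normalizer (Z : Set G) ≤ A ⊓ B) : Nonempty (Setup G) := by
  obtain ⟨DA⟩ := exists_side A B hSylA eA hOA S
  set SG := (S : Subgroup ↥(A ⊓ B)).map (A ⊓ B).subtype with hSG
  have hSGle : SG ≤ A ⊓ B := Subgroup.map_subtype_le _
  obtain ⟨S', hS'⟩ : ∃ S' : Sylow 3 ↥(B ⊓ A), (S' : Subgroup ↥(B ⊓ A)).map (B ⊓ A).subtype = SG := by
    have hcomm : A ⊓ B = B ⊓ A := inf_comm _ _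
    revert S
    rw [hcomm]
    exact fun S _ _ _ _ => ⟨S, rfl⟩
  have hSylB' : ¬ 3 ∣ ((B ⊓ A).subgroupOf B).index := by rwa [inf_comm B A]
  obtain ⟨DB⟩ : Nonempty (SideData B A SG) := hS' ▸ exists_side B A hSylB' eB hOB S'
  have hne : A ≠ B := by
    intro hAB
    subst hAB
    have hN : (Cfsg.pCore 3 A).map A.subtype = ⊥ := by
      have hmap : ∀ a ∈ A, ((Cfsg.pCore 3 A).map A.subtype).map (MulAut.conj a).toMonoidHom =
          (Cfsg.pCore 3 A).map A.subtype := fun a ha => by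
        have hn : ((Cfsg.pCore 3 A).map (MulAut.conj (⟨a, ha⟩ : A)).toMonoidHom) = Cfsg.pCore 3 A :=
          Subgroup.Normal.map_conj_eq _ _
        conv_rhs => rw [← hn]
        rw [Subgroup.map_map, Subgroup.map_map]
        exact congrArg (fun f => Subgroup.map f (Cfsg.pCore 3 A)) (MonoidHom.ext fun k => rfl)
      exact hcore _ (le_inf (Subgroup.map_subtype_le _) (Subgroup.map_subtype_le _)) hmap hmap
    have := hOA.2.2.1
    rw [(Subgroup.map_eq_bot_iff_of_injective _ A.subtype_injective).1 hN] at this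
    simp at this
  have hZmem : ∀ g, g ∈ Z ↔ g ∈ SG ∧ ∀ h ∈ SG, h * g = g * h := by
    intro g
    rw [hZ, hSG]
    simp only [Subgroup.mem_map, Subgroup.mem_inf, Subgroup.mem_centralizer_iff]
    constructor
    · rintro ⟨k, ⟨hk1, hk2⟩, rfl⟩
      refine ⟨⟨k, hk1, rfl⟩, ?_⟩
      rintro _ ⟨h, hh, rfl⟩
      rw [← map_mul, ← map_mul, hk2 h hh]
    · rintro ⟨⟨k, hk, rfl⟩, hc⟩
      exact ⟨k, ⟨hk, fun h hh => (A ⊓ B).subtype_injective
        (by rw [map_mul, map_mul]; exact hc _ ⟨h, hh, rfl⟩)⟩, rfl⟩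
  have bA := DA.borel_spec hSGle DB.card hne hZmem hNZ
  have bB := DB.borel_spec (hSGle.trans (le_of_eq (inf_comm A B))) DA.card hne.symm hZmem
    (hNZ.trans (le_of_eq (inf_comm A B)))
  obtain ⟨gensA, gensB, gensC⟩ := gens_ok
  obtain ⟨t, ht⟩ := DA.surj (genA 0) (gensA 0 (by decide)).1
  obtain ⟨v, hv⟩ := DA.surj (genA 1) (gensA 1 (by decide)).1
  obtain ⟨a, ha⟩ := DA.surj (genA 2) (gensA 2 (by decide)).1
  obtain ⟨p, hp⟩ := DA.surj (genA 4) (gensA 4 (by decide)).1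
  obtain ⟨r, hr⟩ := DA.surj (genA 5) (gensA 5 (by decide)).1
  let γ : ℕ → A := lettersFn t v a 1 p r
  have hγev : ∀ w : List ℕ, lettersIn lettersA w = true → DA.φ ((w.map γ).prod) = ev genA w := by
    intro w
    induction w with
    | nil => intro _; simp [ev]
    | cons x w ih =>
      intro hw
      simp only [lettersIn, List.all_cons, Bool.and_eq_true, List.contains_eq_mem, decide_eq_true_eq] at hw
      rw [List.map_cons, List.prod_cons, map_mul, ev_cons, ih (by simpa [lettersIn] using hw.2)]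
      congr 1
      simp only [lettersA, List.mem_cons, List.not_mem_nil, or_false] at hw
      rcases hw.1 with rfl | rfl | rfl | rfl | rfl <;> assumption
  have hsq : ∀ g : A, (∃ x ∈ lettersA, DA.φ g = genA x) → g * g = 1 := fun g ⟨x, hx, hgx⟩ =>
    DA.inj (by rw [map_mul, map_one, hgx]; exact (gensA x hx).2)
  have hgamB : ∀ x ∈ [0, 1, 4, 5], (γ x : G) ∈ B := by
    intro x hx
    refine (bA _).2 ?_
    simp only [List.mem_cons, List.not_mem_nil, or_false] at hx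
    rcases hx with rfl | rfl | rfl | rfl
    · show (DA.φ t).IsBorel; rw [ht]; exact (gensC 0 (by decide)).1
    · show (DA.φ v).IsBorel; rw [hv]; exact (gensC 1 (by decide)).1
    · show (DA.φ p).IsBorel; rw [hp]; exact (gensC 4 (by decide)).1
    · show (DA.φ r).IsBorel; rw [hr]; exact (gensC 5 (by decide)).1
  obtain ⟨r0, r1, r2, r3, r4, r5, r6, e_ne, e_uni, x_uni, x_b, z_val, r7⟩ := stdA_rel
  let T' : B := ⟨(t : G), hgamB 0 (by decide)⟩
  let V' : B := ⟨(v : G), hgamB 1 (by decide)⟩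
  let P' : B := ⟨(p : G), hgamB 4 (by decide)⟩
  let R' : B := ⟨(r : G), hgamB 5 (by decide)⟩
  let δ : ℕ → B := lettersFn T' V' 1 1 P' R'
  have htransfer : ∀ u w : List ℕ, lettersIn [0, 1, 4, 5] u = true → lettersIn [0, 1, 4, 5] w = true →
      ev genA u = ev genA w → (u.map δ).prod = (w.map δ).prod := by
    have hval : ∀ u : List ℕ, lettersIn [0, 1, 4, 5] u = true →
        ((u.map δ).prod : G) = ((u.map γ).prod : G) ∧ lettersIn lettersA u = true := by
      intro u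
      induction u with
      | nil => intro _; simp [lettersIn]
      | cons x u ih =>
        intro hu
        simp only [lettersIn, List.all_cons, Bool.and_eq_true, List.contains_eq_mem, decide_eq_true_eq] at hu ⊢
        obtain ⟨h1, h2⟩ := ih (by simpa [lettersIn] using hu.2)
        simp only [lettersIn, List.contains_eq_mem] at h2
        have hx := hu.1
        simp only [List.mem_cons, List.not_mem_nil, or_false] at hx
        simp only [List.map_cons, List.prod_cons, Subgroup.coe_mul, h1]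
        rcases hx with rfl | rfl | rfl | rfl <;> exact ⟨rfl, by decide, h2⟩
    intro u w hu hw he
    obtain ⟨e1, l1⟩ := hval u hu
    obtain ⟨e2, l2⟩ := hval w hw
    refine Subtype.ext ?_
    rw [e1, e2, DA.inj (show DA.φ ((u.map γ).prod) = DA.φ ((w.map γ).prod) by rw [hγev u l1, hγev w l2, he])]
  set X := [1, 4].map δ |>.prod with hX
  set E := [0, 5].map δ |>.prod with hE
  have eX : X = V' * P' := by simp [hX, δ, lettersFn]
  have eE : E = T' * R' := by simp [hE, δ, lettersFn]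
  have kTT : T' * T' = 1 := by simpa [δ, lettersFn] using htransfer [0, 0] [] rfl rfl r0
  have kVV : V' * V' = 1 := by simpa [δ, lettersFn] using htransfer [1, 1] [] rfl rfl r1
  have kVT : V' * T' = T' * V' := by simpa [δ, lettersFn] using htransfer [1, 0] [0, 1] rfl rfl r2
  have kTX : T' * X = X * T' := by
    simpa [eX, δ, lettersFn, mul_assoc] using htransfer [0, 1, 4] [1, 4, 0] rfl rfl r3
  have kVX : V' * X * V' * X = 1 := by
    simpa [eX, δ, lettersFn, mul_assoc] using htransfer [1, 1, 4, 1, 1, 4] [] rfl rfl r4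
  have kTE : T' * E * T' * E = 1 := by
    simpa [eE, δ, lettersFn, mul_assoc] using htransfer [0, 0, 5, 0, 0, 5] [] rfl rfl r5
  have kVE : V' * E = E * V' := by
    simpa [eE, δ, lettersFn, mul_assoc] using htransfer [1, 0, 5] [0, 5, 1] rfl rfl r6
  set Zel := [1, 4, 0, 5, 4, 1, 5, 0].map δ |>.prod with hZel
  have kVZ : V' * Zel * V' * Zel = 1 := by
    simpa [hZel, δ, lettersFn, mul_assoc] using
      htransfer [1, 1, 4, 0, 5, 4, 1, 5, 0, 1, 1, 4, 0, 5, 4, 1, 5, 0] [] rfl rfl r7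
  have hXA : ((X : B) : G) = ((v * p : A) : G) := by simp [eX, V', P']
  have hEA : ((E : B) : G) = ((t * r : A) : G) := by simp [eE, T', R']
  have hxA : DA.φ (v * p) = ev genA [1, 4] := by rw [← hγev [1, 4] rfl]; simp [γ, lettersFn]
  -- the translations of the second side contain `x`
  have hXQ : X ∈ Cfsg.pCore 3 B := by
    obtain ⟨k, hkQ, hkb⟩ : ∃ k : B, k ∈ Cfsg.pCore 3 B ∧ ∀ h : (k : G) ∈ A, (DA.φ ⟨k, h⟩).b ≠ 0 := by
      by_contra hcon
      push Not at hcon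
      have hsub : (Cfsg.pCore 3 B).map B.subtype ≤ (Cfsg.pCore 3 A).map A.subtype := by
        rintro _ ⟨k, hk, rfl⟩
        obtain ⟨h, hb⟩ := hcon k hk
        obtain ⟨u1, u2, u3, u4⟩ := (DB.core_spec k).1 hk
        have hku := (DA.sylow_spec ⟨k, h⟩).1 ((DB.sylow_spec k).2 ⟨u1, u3, u4⟩)
        exact ⟨⟨k, h⟩, (DA.core_spec _).2 ⟨hku.1, hb, hku.2.1, hku.2.2⟩, rfl⟩
      have heq := Subgroup.eq_of_le_of_card_ge hsub (by
        rw [← Nat.card_congr (Subgroup.equivMapOfInjective _ _ A.subtype_injective).toEquiv,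
          ← Nat.card_congr (Subgroup.equivMapOfInjective _ _ B.subtype_injective).toEquiv,
          hOA.2.2.1, hOB.2.2.1])
      have hmapA : ∀ (A : Subgroup G), ∀ a ∈ A, ((Cfsg.pCore 3 A).map A.subtype).map (MulAut.conj a).toMonoidHom =
          (Cfsg.pCore 3 A).map A.subtype := fun A a ha => by
        have hn : ((Cfsg.pCore 3 A).map (MulAut.conj (⟨a, ha⟩ : A)).toMonoidHom) = Cfsg.pCore 3 A :=
          Subgroup.Normal.map_conj_eq _ _
        conv_rhs => rw [← hn]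
        rw [Subgroup.map_map, Subgroup.map_map]
        exact congrArg (fun f => Subgroup.map f (Cfsg.pCore 3 A)) (MonoidHom.ext fun k => rfl)
      have := hcore _ (le_inf (heq ▸ Subgroup.map_subtype_le _) (Subgroup.map_subtype_le _))
        (fun x hx => by rw [heq]; exact hmapA A x hx) (hmapA B)
      have h9 := hOB.2.2.1
      rw [(Subgroup.map_eq_bot_iff_of_injective _ B.subtype_injective).1 this] at h9
      simp at h9
    obtain ⟨u1, u2, u3, u4⟩ := (DB.core_spec k).1 hkQ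
    have hkSG : (k : G) ∈ SG := (DB.sylow_spec k).2 ⟨u1, u3, u4⟩
    have hkA : (k : G) ∈ A := (hSGle hkSG).1
    have hm : T' * k * T' ∈ Cfsg.pCore 3 B := by
      have := Subgroup.Normal.conj_mem (inferInstance : (Cfsg.pCore 3 B).Normal) k hkQ T'
      rwa [show T'⁻¹ = T' from inv_eq_of_mul_eq_one_right kTT] at this
    have hcom : T' * k * T' * k = k * (T' * k * T') :=
      congrArg Subtype.val (hOB.1.is_comm.comm ⟨_, hm⟩ ⟨k, hkQ⟩)
    have hcomA : t * ⟨k, hkA⟩ * t * ⟨k, hkA⟩ = (⟨k, hkA⟩ : A) * (t * ⟨k, hkA⟩ * t) :=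
      Subtype.ext (congrArg Subtype.val hcom : _)
    have := find_x (DA.φ ⟨k, hkA⟩) ((DA.sylow_spec ⟨k, hkA⟩).1 hkSG) (hkb hkA)
      (by rw [← ht, ← map_mul, ← map_mul, ← map_mul, ← map_mul, hcomA])
    rw [← ht, ← map_mul, ← map_mul, ← map_mul, ← map_mul, ← hxA] at this
    rcases this with h | h
    · have h' : X = T' * k * T' * k := Subtype.ext (hXA.trans (congrArg Subtype.val (DA.inj h)).symm)
      rw [h']; exact mul_mem hm hkQ
    · have h' : X = T' * k * T' * k * (T' * k * T' * k) :=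
        Subtype.ext (hXA.trans (congrArg Subtype.val (DA.inj h)).symm)
      rw [h']; exact mul_mem (mul_mem hm hkQ) (mul_mem hm hkQ)
  obtain ⟨xa, xb, xc, xd⟩ := (DB.core_spec X).1 hXQ
  have hXtr : DB.φ X = tr (DB.φ X).p (DB.φ X).q := Aff.ext xa xb xc xd rfl rfl
  have hEuni : (DB.φ E).IsUni := (DB.sylow_spec E).1 (by
    rw [hEA]
    exact (DA.sylow_spec (t * r)).2 (by
      rw [show DA.φ (t * r) = ev genA [0, 5] by rw [← hγev [0, 5] rfl]; simp [γ, lettersFn]]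
      exact e_uni))
  have hBorel : ∀ x ∈ [0, 1, 4, 5], (DB.φ (δ x)).IsBorel := by
    intro x hx
    simp only [List.mem_cons, List.not_mem_nil, or_false] at hx
    refine (bB _).1 ?_
    rcases hx with rfl | rfl | rfl | rfl
    · exact t.2
    · exact v.2
    · exact p.2
    · exact r.2
  have hEne : E ≠ 1 := fun h => e_ne (by
    rw [← hγev [0, 5] rfl]
    have : t * r = 1 := Subtype.ext (hEA.symm.trans (by rw [h]; rfl))
    simp [γ, lettersFn, this])
  -- `z` is a nontrivial translation along the first axis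
  have hZA : ((Zel : B) : G) = ((v * p * (t * r) * (p * v) * (r * t) : A) : G) := by
    simp [hZel, δ, lettersFn, T', V', P', R', mul_assoc]
  have hzφ : DA.φ (v * p * (t * r) * (p * v) * (r * t)) = tr 1 0 := by
    rw [← z_val, ← hγev _ rfl]
    simp [γ, lettersFn, mul_assoc]
  have hZZ : ((Zel : B) : G) ∈ SG ∧ ∀ h ∈ SG, h * ((Zel : B) : G) = ((Zel : B) : G) * h := by
    rw [hZA]; exact (DA.centre_spec (hSGle.trans inf_le_left) _).2 ⟨1, hzφ⟩
  obtain ⟨pz, hpz⟩ := (DB.centre_spec (hSGle.trans inf_le_right) Zel).1 hZZ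
  have hpz0 : pz ≠ 0 := fun h0 => by
    have h1 : Zel = 1 := DB.inj (by rw [hpz, h0, map_one]; rfl)
    have h2 : v * p * (t * r) * (p * v) * (r * t) = 1 := Subtype.ext (hZA.symm.trans (by rw [h1]; rfl))
    rw [h2, map_one] at hzφ
    exact absurd hzφ (by decide)
  have hq0 : (DB.φ X).q ≠ 0 := fun h0 => by
    have hxZ : ((X : B) : G) ∈ SG ∧ ∀ h ∈ SG, h * ((X : B) : G) = ((X : B) : G) * h :=
      (DB.centre_spec (hSGle.trans inf_le_right) X).2 ⟨(DB.φ X).p, by conv_lhs => rw [hXtr, h0]⟩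
    rw [hXA] at hxZ
    obtain ⟨q, hq⟩ := (DA.centre_spec (hSGle.trans inf_le_left) _).1 hxZ
    rw [hxA] at hq
    exact x_b (by rw [hq]; rfl)
  have hVV : DB.φ V' * DB.φ V' = 1 := by rw [← map_mul, kVV, map_one]
  have hVz : DB.φ V' * tr 1 0 * DB.φ V' * tr 1 0 = 1 := by
    have h1 : DB.φ V' * tr pz 0 * DB.φ V' * tr pz 0 = 1 := by
      rw [← hpz, ← map_mul, ← map_mul, ← map_mul, kVZ, map_one]
    rcases (show ∀ q : ZMod 3, q ≠ 0 → q = 1 ∨ q = 2 by clear * -; decide) pz hpz0 with rfl | rfl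
    · exact h1
    · have h2 : DB.φ (Zel * Zel) = tr 1 0 := by rw [map_mul, hpz]; decide
      have h3 : V' * (Zel * Zel) * V' * (Zel * Zel) = 1 := by
        have hinv : V' * Zel * V' = Zel⁻¹ := eq_inv_of_mul_eq_one_left kVZ
        calc V' * (Zel * Zel) * V' * (Zel * Zel)
            = V' * Zel * (V' * V') * Zel * V' * (Zel * Zel) := by rw [kVV]; group
          _ = (V' * Zel * V') * (V' * Zel * V') * (Zel * Zel) := by group
          _ = 1 := by rw [hinv]; group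
      rw [← h2, ← map_mul, ← map_mul, ← map_mul, h3, map_one]
  obtain ⟨i, j, hij⟩ := match_one_list (DB.φ V') (hBorel 1 (by decide)) hVV _ _ hq0
    (by rw [← hXtr, ← map_mul, ← map_mul, ← map_mul, kVX, map_one]) hVz
  have htr : (tr i j).OK := by simp [Aff.OK, Aff.det, tr]
  obtain ⟨c₁, hc₁⟩ := DB.surj _ htr
  let φ₁ : B →* Aff := DB.φ.comp (MulAut.conj c₁).toMonoidHom
  have hφ₁ : ∀ k, φ₁ k * DB.φ c₁ = DB.φ c₁ * DB.φ k := fun k => by
    show DB.φ (c₁ * k * c₁⁻¹) * _ = _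
    rw [← map_mul, ← map_mul]; congr 1; group
  have hφ₁i : Function.Injective φ₁ := DB.inj.comp (MulAut.conj c₁).injective
  have hc₁B : (c₁ : G) ∈ A := (bB c₁).2 (by rw [hc₁]; rfl)
  have hV₁ : φ₁ V' = genB 1 := by
    have h := hφ₁ V'
    rw [hc₁, hij, ← hc₁] at h
    calc φ₁ V' = φ₁ V' * (DB.φ c₁ * DB.φ c₁⁻¹) := by rw [← map_mul, mul_inv_cancel, map_one, mul_one]
      _ = genB 1 * (DB.φ c₁ * DB.φ c₁⁻¹) := by rw [← mul_assoc, h, mul_assoc]
      _ = genB 1 := by rw [← map_mul, mul_inv_cancel, map_one, mul_one]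
  have hX₁ : φ₁ X = DB.φ X := by
    have h := hφ₁ X
    have : tr i j * DB.φ X = DB.φ X * tr i j := by
      rw [hXtr]; simp [Aff.mul_def, tr, add_comm]
    rw [hc₁, this, ← hc₁] at h
    calc φ₁ X = φ₁ X * (DB.φ c₁ * DB.φ c₁⁻¹) := by rw [← map_mul, mul_inv_cancel, map_one, mul_one]
      _ = DB.φ X * (DB.φ c₁ * DB.φ c₁⁻¹) := by rw [← mul_assoc, h, mul_assoc]
      _ = DB.φ X := by rw [← map_mul, mul_inv_cancel, map_one, mul_one]
  have hzeroE := commute_negI (φ₁ E) (by rw [← hV₁, ← map_mul, ← map_mul, kVE])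
  have hzeroT := commute_negI (φ₁ T') (by rw [← hV₁, ← map_mul, ← map_mul, kVT])
  have hB₁ : ∀ k, (DB.φ k).IsBorel → (φ₁ k).IsBorel := fun k hk => by
    show (DB.φ (c₁ * k * c₁⁻¹)).IsBorel
    refine (bB _).1 ?_
    push_cast
    exact mul_mem (mul_mem hc₁B ((bB k).2 hk)) (inv_mem hc₁B)
  have hEu₁ : (φ₁ E).IsUni := by
    show (DB.φ (c₁ * E * c₁⁻¹)).IsUni
    have hE' := hEuni
    have hinvc : DB.φ c₁⁻¹ = tr (-i) (-j) := by
      calc DB.φ c₁⁻¹ = tr (-i) (-j) * tr i j * DB.φ c₁⁻¹ := by simp [Aff.mul_def, tr, Aff.one_def]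
        _ = tr (-i) (-j) * (DB.φ c₁ * DB.φ c₁⁻¹) := by rw [hc₁, mul_assoc]
        _ = tr (-i) (-j) := by rw [← map_mul, mul_inv_cancel, map_one, mul_one]
    rw [map_mul, map_mul, hc₁, hinvc]
    simp [Aff.mul_def, tr, Aff.IsUni, hE'.1, hE'.2.1, hE'.2.2]
  have hemem : φ₁ E ∈ ([⟨1, 1, 0, 1, 0, 0⟩, ⟨1, 2, 0, 1, 0, 0⟩] : List Aff) := by
    rcases uni_lin _ hEu₁ hzeroE.1 hzeroE.2 with h | h | h
    · exact absurd (hφ₁i (h.trans (map_one φ₁).symm)) hEne
    · simp [h]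
    · simp [h]
  obtain ⟨a', b', d', ha', hd', m1, m2, m3, m4⟩ := match_two_list (φ₁ T') (hB₁ _ (hBorel 0 (by decide)))
    hzeroT.1 hzeroT.2 (by rw [← map_mul, kTT, map_one]) _ _ hq0
    (by rw [← hXtr, ← hX₁, ← map_mul, ← map_mul, kTX]) (φ₁ E) hemem
    (by rw [← map_mul, ← map_mul, ← map_mul, kTE, map_one])
  obtain ⟨c₂, hc₂⟩ : ∃ g, φ₁ g = (⟨a', b', 0, d', 0, 0⟩ : Aff) := by
    obtain ⟨g, hg⟩ := DB.surj ⟨a', b', 0, d', 0, 0⟩ (by
      show a' * d' - b' * 0 ≠ 0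
      simp [ha', hd'])
    exact ⟨c₁⁻¹ * g * c₁, by
      show DB.φ (c₁ * (c₁⁻¹ * g * c₁) * c₁⁻¹) = _
      rw [show c₁ * (c₁⁻¹ * g * c₁) * c₁⁻¹ = g by group, hg]⟩
  let φB : B →* Aff := φ₁.comp (MulAut.conj c₂).toMonoidHom
  have hφB : ∀ k m, φ₁ c₂ * φ₁ k = m * φ₁ c₂ → φB k = m := fun k m h => by
    show φ₁ (c₂ * k * c₂⁻¹) = m
    rw [map_mul, map_mul, h, mul_assoc, ← map_mul, mul_inv_cancel, map_one, mul_one]
  have hc₂B : (c₂ : G) ∈ A := by
    have h : (DB.φ (c₁ * c₂ * c₁⁻¹)).IsBorel := by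
      show (φ₁ c₂).IsBorel
      rw [hc₂]; rfl
    have := (bB _).2 h
    push_cast at this
    have h2 := mul_mem (mul_mem (inv_mem hc₁B) this) hc₁B
    simpa [mul_assoc] using h2
  have hφBi : Function.Injective φB := hφ₁i.comp (MulAut.conj c₂).injective
  have hφBs : ∀ m : Aff, m.OK → ∃ g, φB g = m := fun m hm => by
    obtain ⟨g, hg⟩ := DB.surj m hm
    refine ⟨c₂⁻¹ * (c₁⁻¹ * g * c₁) * c₂, ?_⟩
    show DB.φ (c₁ * (c₂ * (c₂⁻¹ * (c₁⁻¹ * g * c₁) * c₂) * c₂⁻¹) * c₁⁻¹) = m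
    rw [← hg]; congr 1; group
  have vX : φB X = ev genB [1, 4] := hφB _ _ (by rw [hc₂, hX₁, hXtr]; exact m1)
  have vE : φB E = ev genB [0, 5] := hφB _ _ (by rw [hc₂]; exact m2)
  have vT : φB T' = genB 0 := hφB _ _ (by rw [hc₂]; exact m3)
  have vV : φB V' = genB 1 := hφB _ _ (by rw [hc₂, hV₁]; exact m4)
  have vP : φB P' = genB 4 := by
    rw [show P' = V' * X by rw [eX, ← mul_assoc, kVV, one_mul], map_mul, vV, vX]; decide
  have vR : φB R' = genB 5 := by
    rw [show R' = T' * E by rw [eE, ← mul_assoc, kTT, one_mul], map_mul, vT, vE]; decide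
  obtain ⟨b, hb⟩ := hφBs (genB 3) (gensB 3 (by decide)).1
  let gen : ℕ → G := lettersFn (t : G) (v : G) (a : G) (b : G) (p : G) (r : G)
  have hbb : b * b = 1 := hφBi (by rw [map_mul, map_one, hb]; exact (gensB 3 (by decide)).2)
  have hz : wprod gen wz = ((v * p * (t * r) * (p * v) * (r * t) : A) : G) := by
    simp [wprod, wz, gen, lettersFn, mul_assoc]
  refine ⟨⟨gen, A, B, DA.φ, φB, ?_, DA.inj, hφBi, DA.surj, hφBs, DA.ok, fun g => DB.ok _, ?_, ?_, bA, ?_, ?_,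
    hcore, hgen⟩⟩
  · intro x
    match x with
    | 0 => exact congrArg Subtype.val (hsq t ⟨0, by decide, ht⟩)
    | 1 => exact congrArg Subtype.val (hsq v ⟨1, by decide, hv⟩)
    | 2 => exact congrArg Subtype.val (hsq a ⟨2, by decide, ha⟩)
    | 3 => exact congrArg Subtype.val hbb
    | 4 => exact congrArg Subtype.val (hsq p ⟨4, by decide, hp⟩)
    | 5 => exact congrArg Subtype.val (hsq r ⟨5, by decide, hr⟩)
    | (n + 6) => exact mul_one 1
  · intro x hx
    simp only [lettersA, List.mem_cons, List.not_mem_nil, or_false] at hx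
    rcases hx with rfl | rfl | rfl | rfl | rfl
    exacts [⟨t.2, ht⟩, ⟨v.2, hv⟩, ⟨a.2, ha⟩, ⟨p.2, hp⟩, ⟨r.2, hr⟩]
  · intro x hx
    simp only [lettersB, List.mem_cons, List.not_mem_nil, or_false] at hx
    rcases hx with rfl | rfl | rfl | rfl | rfl
    exacts [⟨T'.2, vT⟩, ⟨V'.2, vV⟩, ⟨b.2, hb⟩, ⟨P'.2, vP⟩, ⟨R'.2, vR⟩]
  · intro g
    show (g : G) ∈ A ↔ (DB.φ (c₁ * (c₂ * g * c₂⁻¹) * c₁⁻¹)).IsBorel
    rw [← bB]
    push_cast
    refine ⟨fun h => mul_mem (mul_mem hc₁B (mul_mem (mul_mem hc₂B h) (inv_mem hc₂B))) (inv_mem hc₁B),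
      fun h => ?_⟩
    have h2 := mul_mem (mul_mem (inv_mem hc₂B) (mul_mem (mul_mem (inv_mem hc₁B) h) hc₁B)) hc₂B
    simpa [mul_assoc] using h2
  · intro g h1
    refine hNZ ?_
    set z := wprod gen wz with hzdef
    have hzZ : z ∈ Z := (hZmem z).2 (by rw [hz]; exact (DA.centre_spec (hSGle.trans inf_le_left) _).2 ⟨1, hzφ⟩)
    have hZeq : Z = Subgroup.zpowers z := by
      refine le_antisymm (fun n hn => ?_) (Subgroup.zpowers_le.2 hzZ)
      have hnA : n ∈ A := (hSGle ((hZmem n).1 hn).1).1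
      obtain ⟨q, hq⟩ := (DA.centre_spec (hSGle.trans inf_le_left) ⟨n, hnA⟩).1 ((hZmem n).1 hn)
      have : (⟨n, hnA⟩ : A) = (v * p * (t * r) * (p * v) * (r * t)) ^ q.val := DA.inj (by
        rw [hq, map_pow, hzφ]
        exact (show ∀ q : ZMod 3, tr q 0 = tr 1 0 ^ q.val by clear * -; decide) q)
      rw [show n = z ^ q.val by rw [hz]; exact (congrArg Subtype.val this).trans (by push_cast; rfl)]
      exact Subgroup.npow_mem_zpowers _ _
    rw [hZeq, Subgroup.mem_normalizer_iff_map_conj_eq, MonoidHom.map_zpowers]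
    have hle : Subgroup.zpowers (g * z * g⁻¹) ≤ Subgroup.zpowers z := Subgroup.zpowers_le.2 h1
    refine Subgroup.eq_of_le_of_card_ge hle ?_
    rw [Nat.card_zpowers, Nat.card_zpowers]
    exact le_of_eq (((MulAut.conj g).orderOf_eq z).symm.trans rfl)

end Cfsg.Agent.GL23Amalgam
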