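import Cfsg.Agent.Lib.GL23Amalgam.Setup

/-!
The centralizer of the first involution modulo that involution, and elementary relations.
-/

set_option autoImplicit false
set_option maxRecDepth 10000
set_option linter.style.haveILetI false

namespace Cfsg.Agent.GL23Amalgam

open CosetCert

/-- The word `u`. -/
def wu : List ℕ := [0, 1]

/-- The word `d = (ab)³`. -/
def wd : List ℕ := [2, 3, 2, 3, 2, 3]

/-- The word `i = av`. -/
def wi : List ℕ := [2, 1]

/-- The word `p ^ x`. -/
def wconj (p : List ℕ) : List ℕ := wx ++ p ++ wX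

/-- The fixed-point-free product of `p`. -/
def wfp (p : List ℕ) : List ℕ := p ++ wx ++ p ++ wX ++ wX ++ p ++ wx

/-- The word `(x d)⁵`. -/
def ws : List ℕ :=
  wx ++ wd ++ (wx ++ wd) ++ (wx ++ wd) ++ (wx ++ wd) ++ (wx ++ wd)

/-- The commutator of `(x d)⁵` and `i`. -/
def wsi : List ℕ := ws ++ wi ++ ws.reverse ++ wi.reverse

theorem borel_cent : ∀ m : Aff, m.IsBorel → m.OK → m * Aff.tr 1 0 = Aff.tr 1 0 * m →
    m * ev genA wu = ev genA wu * m →
    ∃ i : Fin 3, m = ev genA (List.replicate i.val wz).flatten ∨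
      m = ev genA ((List.replicate i.val wz).flatten ++ wu) :=
  Aff.forall_of_all (by decide +kernel)

namespace Setup

variable {G : Type*} [Group G] (S : Setup G)

/-- The value of a word. -/
abbrev wp (w : List ℕ) : G := wprod S.gen w

theorem wp_append (u v : List ℕ) : S.wp (u ++ v) = S.wp u * S.wp v := by simp [wp, wprod]

theorem wp_nil : S.wp [] = 1 := rfl

theorem wp_one (x : ℕ) : S.wp [x] = S.gen x := by simp [wp, wprod]

theorem wp_two (x y : ℕ) : S.wp [x, y] = S.gen x * S.gen y := by simp [wp, wprod]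

theorem wp_reverse (w : List ℕ) : S.wp w.reverse = (S.wp w)⁻¹ := wprod_reverse S.gen_inv w

theorem gen_self (x : ℕ) : (S.gen x)⁻¹ = S.gen x := inv_eq_of_mul_eq_one_right (S.gen_inv x)

/-- The involution `t`. -/
abbrev t : G := S.gen 0

theorem tt : S.t * S.t = 1 := S.gen_inv 0

theorem t_ne : S.t ≠ 1 := by
  show S.gen 0 ≠ 1
  rw [← S.wp_one, ← S.wp_nil]
  exact S.neA (by decide) (by decide) (by decide +kernel)

theorem v_ne : S.gen 1 ≠ 1 := by
  rw [← S.wp_one, ← S.wp_nil]
  exact S.neA (by decide) (by decide) (by decide +kernel)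

theorem tv : Commute S.t (S.gen 1) := by
  show S.t * S.gen 1 = S.gen 1 * S.t
  rw [← S.wp_two, ← S.wp_two]
  exact S.eqA (by decide) (by decide) (by decide +kernel)

theorem u_eq : S.wp wu = S.t * S.gen 1 := S.wp_two 0 1

theorem tu : Commute S.t (S.wp wu) := by
  rw [u_eq]; exact (Commute.refl _).mul_right S.tv

theorem uu : S.wp wu * S.wp wu = 1 := by
  rw [← wp_append, ← S.wp_nil]
  exact S.eqA (by decide) (by decide) (by decide +kernel)

theorem aT : S.gen 2 * S.t * S.gen 2 = S.t ∧ S.gen 2 * S.gen 1 * S.gen 2 = S.wp wu := by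
  refine ⟨?_, ?_⟩
  · have h := S.eqA (u := [2, 0, 2]) (v := [0]) (by decide) (by decide) (by decide +kernel)
    simpa [wprod, mul_assoc] using h
  · have h := S.eqA (u := [2, 1, 2]) (v := wu) (by decide) (by decide) (by decide +kernel)
    simpa [wp, wprod, mul_assoc] using h

theorem bT : S.gen 3 * S.gen 1 * S.gen 3 = S.gen 1 ∧ S.gen 3 * S.t * S.gen 3 = S.wp wu := by
  refine ⟨?_, ?_⟩
  · have h := S.eqB (u := [3, 1, 3]) (v := [1]) (by decide) (by decide) (by decide +kernel)
    simpa [wprod, mul_assoc] using h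
  · have h := S.eqB (u := [3, 0, 3]) (v := wu) (by decide) (by decide) (by decide +kernel)
    simpa [wp, wprod, mul_assoc] using h

theorem tx : Commute S.t (S.wp wx) := by
  show S.gen 0 * S.wp wx = S.wp wx * S.gen 0
  rw [← S.wp_one, ← wp_append, ← wp_append]
  exact S.eqA (by decide) (by decide) (by decide +kernel)

theorem x_inv : S.wp wX = (S.wp wx)⁻¹ := S.wp_reverse wx

theorem x_cube : S.wp wx ^ 3 = 1 := by
  rw [pow_three, ← wp_append, ← wp_append, ← S.wp_nil]
  exact S.eqA (by decide) (by decide) (by decide +kernel)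

theorem x_ne : S.wp wx ≠ 1 := by
  rw [← S.wp_nil]
  exact S.neA (by decide) (by decide) (by decide +kernel)

theorem x_order : orderOf (S.wp wx) = 3 :=
  haveI : Fact (Nat.Prime 3) := ⟨Nat.prime_three⟩
  orderOf_eq_prime S.x_cube S.x_ne

theorem wz_tr : ∀ h : S.wp wz ∈ S.A, S.φA ⟨S.wp wz, h⟩ = Aff.tr 1 0 := fun h => by
  obtain ⟨_, e⟩ := S.wprod_A wz (by decide)
  exact e.trans (by decide +kernel)

/-- The centralizer of `x` and `t` is `⟨x, t⟩`. -/
theorem cent_xt {g : G} (ht : Commute g S.t) (hx : Commute g (S.wp wx)) :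
    ∃ i : Fin 3, g = S.wp wx ^ i.val ∨ g = S.wp wx ^ i.val * S.t := by
  set β : G →* G := (MulAut.conj (S.gen 3)).toMonoidHom
  have hβ : ∀ k, β k = S.gen 3 * k * S.gen 3 := fun k => by
    show S.gen 3 * k * (S.gen 3)⁻¹ = _
    rw [S.gen_self]
  have hββ : ∀ k, β (β k) = k := fun k => by
    rw [hβ, hβ]
    calc S.gen 3 * (S.gen 3 * k * S.gen 3) * S.gen 3 = S.gen 3 * S.gen 3 * k * (S.gen 3 * S.gen 3) := by group
      _ = k := by rw [S.gen_inv]; group
  have hbz : β (S.wp wz) = (S.wp wx)⁻¹ := by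
    rw [hβ, ← x_inv, ← S.wp_one, ← wp_append, ← wp_append]
    exact S.eqB (by decide) (by decide) (by decide +kernel)
  have hbu : β (S.wp wu) = S.t := by
    rw [← S.bT.2, ← hβ, hββ]
  set g' := β g
  have hu : Commute g' (S.wp wu) := by
    have := ht.map β
    rwa [show β S.t = S.wp wu by rw [hβ, S.bT.2]] at this
  have hz : Commute g' (S.wp wz) := by
    have := hx.inv_right.map β
    rwa [← hbz, hββ] at this
  have hmem : g' * S.wp wz * g'⁻¹ ∈ Subgroup.zpowers (S.wp wz) := by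
    rw [hz.eq, mul_inv_cancel_right]; exact Subgroup.mem_zpowers _
  obtain ⟨hA, hB⟩ := S.normZ g' hmem
  obtain ⟨huA, eu⟩ := S.wprod_A wu (by decide)
  obtain ⟨hzA, -⟩ := S.wprod_A wz (by decide)
  have c1 : S.φA ⟨g', hA⟩ * Aff.tr 1 0 = Aff.tr 1 0 * S.φA ⟨g', hA⟩ := by
    rw [← S.wz_tr hzA, ← map_mul, ← map_mul]; exact congrArg S.φA (Subtype.ext hz.eq)
  have c2 : S.φA ⟨g', hA⟩ * ev genA wu = ev genA wu * S.φA ⟨g', hA⟩ := by
    rw [← eu, ← map_mul, ← map_mul]; exact congrArg S.φA (Subtype.ext hu.eq)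
  obtain ⟨i, hi⟩ := borel_cent _ ((S.borelA ⟨g', hA⟩).1 hB) (S.okA _) c1 c2
  have hrep : ∀ n : ℕ, S.wp (List.replicate n wz).flatten = S.wp wz ^ n := by
    intro n
    induction n with
    | zero => simp [wp, wprod]
    | succ n ih => rw [List.replicate_succ, List.flatten_cons, wp_append, ih, pow_succ']
  have hin : ∀ n : Fin 3, lettersIn lettersA (List.replicate n.val wz).flatten = true ∧
      lettersIn lettersA ((List.replicate n.val wz).flatten ++ wu) = true := by decide
  have key : ∀ w, lettersIn lettersA w = true → S.φA ⟨g', hA⟩ = ev genA w → g = β (S.wp w) := fun w hw e => by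
    obtain ⟨h, e'⟩ := S.wprod_A w hw
    rw [← hββ g]
    exact congrArg β (congrArg Subtype.val (S.injA (e.trans e'.symm)))
  have hinvx : ∀ n : Fin 3, ∃ m : Fin 3, ((S.wp wx)⁻¹) ^ n.val = S.wp wx ^ m.val := by
    intro n
    fin_cases n
    · exact ⟨0, by simp⟩
    · exact ⟨2, by simp [eq_inv_of_mul_eq_one_left (show S.wp wx ^ 2 * S.wp wx = 1 by
        rw [← pow_succ, S.x_cube])]⟩
    · exact ⟨1, by
        simp only [inv_pow]
        exact inv_eq_of_mul_eq_one_right (by rw [← pow_add]; exact S.x_cube)⟩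
  obtain ⟨m, hm⟩ := hinvx i
  rcases hi with hi | hi
  · exact ⟨m, Or.inl (by rw [key _ (hin i).1 hi, hrep, map_pow, hbz, hm])⟩
  · exact ⟨m, Or.inr (by rw [key _ (hin i).2 hi, wp_append, hrep, map_mul, map_pow, hbz, hbu, hm])⟩

/-- Being `1` or `t`. -/
def InT (g : G) : Prop := g = 1 ∨ g = S.t

/-- The centralizer of `t`. -/
abbrev Ct : Subgroup G := Subgroup.centralizer ({S.t} : Set G)

theorem mem_Ct {g : G} : g ∈ S.Ct ↔ Commute g S.t := Subgroup.mem_centralizer_singleton_iff

/-- The subgroup `⟨t⟩` of the centralizer of `t`. -/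
abbrev Nt : Subgroup S.Ct := (Subgroup.zpowers S.t).subgroupOf S.Ct

theorem mem_Nt {g : S.Ct} : g ∈ S.Nt ↔ S.InT (g : G) := by
  rw [Subgroup.mem_subgroupOf]
  constructor
  · intro h
    obtain ⟨k, hk⟩ := Subgroup.mem_zpowers_iff.1 h
    rcases Int.even_or_odd' k with ⟨l, rfl | rfl⟩
    · left; rw [← hk, zpow_mul, zpow_two, S.tt, one_zpow]
    · right; rw [← hk, zpow_add, zpow_mul, zpow_two, S.tt, one_zpow, one_mul, zpow_one]
  · rintro (h | h) <;> rw [h]
    · exact one_mem _
    · exact Subgroup.mem_zpowers _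

instance Nt_normal : S.Nt.Normal := ⟨fun n hn g => by
  rw [mem_Nt] at hn ⊢
  have hg := (S.mem_Ct.1 g.2)
  rcases hn with h | h
  · left; push_cast; rw [h]; group
  · right; push_cast; rw [h, hg.eq, mul_inv_cancel_right]⟩

/-- Reduction modulo `⟨t⟩`. -/
abbrev red : S.Ct →* S.Ct ⧸ S.Nt := QuotientGroup.mk' S.Nt

theorem red_eq_one {g : S.Ct} : S.red g = 1 ↔ S.InT (g : G) := (QuotientGroup.eq_one_iff g).trans S.mem_Nt

theorem red_eq {g h : S.Ct} : S.red g = S.red h ↔ S.InT ((g : G)⁻¹ * h) :=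
  QuotientGroup.eq.trans S.mem_Nt

/-- The image of `x` is self-centralizing. -/
theorem red_x_spec (hx : S.wp wx ∈ S.Ct) :
    orderOf (S.red ⟨S.wp wx, hx⟩) = 3 ∧
      Subgroup.centralizer ({S.red ⟨S.wp wx, hx⟩} : Set (S.Ct ⧸ S.Nt)) =
        Subgroup.zpowers (S.red ⟨S.wp wx, hx⟩) := by
  haveI : Fact (Nat.Prime 3) := ⟨Nat.prime_three⟩
  refine ⟨orderOf_eq_prime ?_ ?_, le_antisymm ?_ ?_⟩
  · rw [← map_pow, red_eq_one]; left; push_cast; exact S.x_cube
  · intro h
    rcases (S.red_eq_one).1 h with h | h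
    · exact S.x_ne h
    · have h2 : S.wp wx ^ 2 = 1 := by rw [pow_two]; exact (congrArg (fun k => k * k) h).trans S.tt
      have := orderOf_dvd_of_pow_eq_one h2
      rw [S.x_order] at this
      norm_num at this
  · intro q hq
    obtain ⟨g, rfl⟩ := QuotientGroup.mk'_surjective _ q
    rw [Subgroup.mem_centralizer_singleton_iff, ← map_mul, ← map_mul, red_eq] at hq
    have hc : Commute (g : G) (S.wp wx) := by
      rcases hq with h | h
      · exact inv_mul_eq_one.1 h
      · exfalso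
        rw [inv_mul_eq_iff_eq_mul] at h
        push_cast at h
        have hg := S.mem_Ct.1 g.2
        have e : (g : G)⁻¹ * S.wp wx * g = S.wp wx * S.t := by
          calc (g : G)⁻¹ * S.wp wx * g = (g : G)⁻¹ * (g * S.wp wx * S.t) := by rw [← h]; group
            _ = S.wp wx * S.t := by group
        have e2 : (S.wp wx * S.t) ^ 3 = 1 := by
          rw [← e, show (g : G)⁻¹ * S.wp wx * (g : G) = (g : G)⁻¹ * S.wp wx * ((g : G)⁻¹)⁻¹ by group, conj_pow,
            S.x_cube]
          group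
        rw [S.tx.symm.mul_pow, S.x_cube, one_mul, pow_three, S.tt, mul_one] at e2
        exact S.t_ne e2
    obtain ⟨i, h | h⟩ := S.cent_xt (S.mem_Ct.1 g.2) hc <;> refine Subgroup.mem_zpowers_iff.2 ⟨i.val, ?_⟩ <;>
      rw [zpow_natCast, ← map_pow, red_eq] <;> push_cast <;> rw [h]
    · left; group
    · right; group
  · exact Subgroup.zpowers_le.2 (Subgroup.mem_centralizer_singleton_iff.2 rfl)

end Setup

end Cfsg.Agent.GL23Amalgam
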