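import Cfsg.Agent.Lib.SelfThree.FPF
import Mathlib.Tactic

/-!
Two identities for a group with an element of order 3 acting without fixed points.
-/

set_option autoImplicit false

namespace Cfsg.Agent.GL23Amalgam

open SelfThree

variable {H : Type*} [Group H]

/-- The basic shift: `I₂ D₁ I₂ = D₀ D₀ D₁`. -/
theorem shift_step {I₀ I₁ I₂ D₀ D₁ D₂ : H} (h2 : I₂ * I₂ = 1) (hI : I₀ * I₁ * I₂ = 1) (hD : D₀ * D₁ * D₂ = 1)
    (i0 : I₀ * D₀ * I₀⁻¹ = D₀⁻¹)
    (hQ : I₀ * D₀ * (I₁ * D₁) * (I₂ * D₂) = 1) : I₂ * D₁ * I₂ = D₀ * D₀ * D₁ := by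
  have e2 : (I₂ : H)⁻¹ = I₂ := inv_eq_of_mul_eq_one_right h2
  have eQ : I₀ * D₀ * (I₁ * D₁) = (I₂ * D₂)⁻¹ := eq_inv_of_mul_eq_one_left hQ
  have eI : I₀ * I₁ = I₂ := by rw [eq_inv_of_mul_eq_one_left hI, e2]
  have eD : (D₂ : H)⁻¹ = D₀ * D₁ := (eq_inv_of_mul_eq_one_left hD).symm
  have e0 : I₀ * D₀ = D₀⁻¹ * I₀ := by rw [← i0]; group
  have el : I₀ * D₀ * (I₁ * D₁) = D₀⁻¹ * (I₂ * D₁) := by
    rw [e0, ← eI]; group
  have er : (I₂ * D₂)⁻¹ = D₀ * D₁ * I₂ := by rw [mul_inv_rev, eD, e2]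
  rw [el, er] at eQ
  calc I₂ * D₁ * I₂ = D₀ * (D₀⁻¹ * (I₂ * D₁)) * I₂ := by group
    _ = D₀ * (D₀ * D₁ * I₂) * I₂ := by rw [eQ]
    _ = D₀ * D₀ * D₁ * (I₂ * I₂) := by group
    _ = D₀ * D₀ * D₁ := by rw [h2, mul_one]

theorem cycle3 {a b c : H} (h : a * b * c = 1) : b * c * a = 1 := by
  rw [mul_assoc] at h
  exact mul_eq_one_comm.1 h

/-- An involution `I` inverting `D`, both in the subgroup acted on freely by `x`. -/
theorem fpf_pair [Finite H] {x : H} {N : Subgroup H} (hF : Fpf x N) {I D : H} (hI : I ∈ N) (hD : D ∈ N)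
    (hI2 : I * I = 1) (hinv : I * D * I⁻¹ = D⁻¹) :
    D ^ 4 = 1 ∧ Commute D (x * D * x⁻¹) ∧
      (x * I * x⁻¹) * D * (x * I * x⁻¹)⁻¹ = D⁻¹ * ((x * D * x⁻¹) * (x * D * x⁻¹))⁻¹ := by
  set c : H →* H := (MulAut.conj x).toMonoidHom
  have hc : ∀ g, c g = x * g * x⁻¹ := fun g => rfl
  set c' : H →* H := (MulAut.conj x⁻¹).toMonoidHom
  have hc' : ∀ g, c' g = x⁻¹ * g * x := fun g => by show x⁻¹ * g * (x⁻¹)⁻¹ = _; rw [inv_inv]
  have pI := hF.prod_eq hI
  have pD := hF.prod_eq hD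
  have pQ := hF.prod_eq (mul_mem hI hD)
  rw [← hc, ← hc'] at pI pD
  rw [← hc (I * D), ← hc' (I * D), map_mul, map_mul] at pQ
  have qI1 : c I * c I = 1 := by rw [← map_mul, hI2, map_one]
  have qI2 : c' I * c' I = 1 := by rw [← map_mul, hI2, map_one]
  have i1 : c I * c D * (c I)⁻¹ = (c D)⁻¹ := by rw [← map_inv, ← map_mul, ← map_mul, hinv, map_inv]
  have i2 : c' I * c' D * (c' I)⁻¹ = (c' D)⁻¹ := by rw [← map_inv, ← map_mul, ← map_mul, hinv, map_inv]
  have k12 := shift_step hI2 (cycle3 pI) (cycle3 pD) i1 (cycle3 pQ)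
  have k20 := shift_step qI1 (cycle3 (cycle3 pI)) (cycle3 (cycle3 pD)) i2 (cycle3 (cycle3 pQ))
  have hcomm : Commute D (c D) := hF.commute_conj hD
  have hD2 : c' D = (D * c D)⁻¹ := eq_inv_of_mul_eq_one_right pD
  have einv : I⁻¹ = I := inv_eq_of_mul_eq_one_right hI2
  refine ⟨?_, hcomm, ?_⟩
  · set E := c D
    rw [hD2] at k12
    have e1 : I * E * I = D * D * E⁻¹ := by
      have h0 : I * D * I = D⁻¹ := by rw [← hinv, einv]
      have h3 : I * (D * E) * I = (E * E * (D * E)⁻¹)⁻¹ := by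
        rw [← k12]; simp only [mul_inv_rev, einv, inv_inv]; group
      have h4 : (I * D * I) * (I * E * I) = I * (D * E) * I := by
        calc (I * D * I) * (I * E * I) = I * D * (I * I) * E * I := by group
          _ = I * (D * E) * I := by rw [hI2]; group
      rw [h3, h0] at h4
      calc I * E * I = D * (D⁻¹ * (I * E * I)) := by group
        _ = D * (E * E * (D * E)⁻¹)⁻¹ := by rw [h4]
        _ = D * D * E⁻¹ := by
            simp only [mul_inv_rev, inv_inv]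
            rw [mul_assoc D E, ← mul_assoc E E⁻¹, mul_inv_cancel, one_mul, ← mul_assoc]
    have h0 : I * D * I = D⁻¹ := by rw [← hinv, einv]
    have hb : D⁻¹ * D⁻¹ * (I * E * I)⁻¹ = E := by
      calc D⁻¹ * D⁻¹ * (I * E * I)⁻¹ = (I * D * I) * (I * D * I) * (I * E * I)⁻¹ := by rw [h0]
        _ = I * (D * D * E⁻¹) * I := by
            simp only [mul_inv_rev, einv]
            calc I * D * I * (I * D * I) * (I * (E⁻¹ * I)) = I * D * (I * I) * D * (I * I) * E⁻¹ * I := by group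
              _ = I * (D * D * E⁻¹) * I := by rw [hI2]; group
        _ = I * (I * E * I) * I := by rw [e1]
        _ = E := by
            calc I * (I * E * I) * I = (I * I) * E * (I * I) := by group
              _ = E := by rw [hI2]; group
    rw [e1] at hb
    simp only [mul_inv_rev, inv_inv] at hb
    have hb2 : E * (D⁻¹ * D⁻¹ * D⁻¹ * D⁻¹) = E := by
      conv_rhs => rw [← hb]
      have h := hcomm.inv_left
      calc E * (D⁻¹ * D⁻¹ * D⁻¹ * D⁻¹) = (E * (D⁻¹ * D⁻¹)) * (D⁻¹ * D⁻¹) := by group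
        _ = ((D⁻¹ * D⁻¹) * E) * (D⁻¹ * D⁻¹) := by rw [(h.mul_left h).eq]
        _ = D⁻¹ * D⁻¹ * (E * (D⁻¹ * D⁻¹)) := by group
    have hb3 := mul_left_cancel (hb2.trans (mul_one E).symm)
    calc D ^ 4 = (D⁻¹ * D⁻¹ * D⁻¹ * D⁻¹)⁻¹ := by group
      _ = 1 := by rw [hb3, inv_one]
  · have e1inv : (c I)⁻¹ = c I := inv_eq_of_mul_eq_one_right qI1
    rw [← hc I, ← hc D, e1inv, k20, hD2]
    simp only [mul_inv_rev]
    have h := hcomm.inv_inv
    calc (c D)⁻¹ * D⁻¹ * ((c D)⁻¹ * D⁻¹) * D = (c D)⁻¹ * (D⁻¹ * (c D)⁻¹) := by group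
      _ = (c D)⁻¹ * ((c D)⁻¹ * D⁻¹) := by rw [h.eq]
      _ = D⁻¹ * ((c D)⁻¹ * (c D)⁻¹) := by
          rw [← mul_assoc]; exact ((h.mul_right h).eq).symm

/-- For an elementary abelian normal subgroup on which a whole tetrahedral group acts freely, the norm
of a four-group is trivial. -/
theorem norm_four [Finite H] {N : Subgroup H} [N.Normal] (hc : IsMulCommutative N) (h2 : ∀ n ∈ N, n ^ 2 = 1)
    {U W R : H} (hUU : U * U ∈ N) (hWW : W * W ∈ N) (hRU : (R * U)⁻¹ * (W * R) ∈ N)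
    (hRW : (R * W)⁻¹ * (U * W * R) ∈ N) (hUW : (U * W)⁻¹ * (W * U) ∈ N)
    (f1 : Fpf R N) (f2 : Fpf (R * U) N) (f3 : Fpf (R * W) N) (f4 : Fpf (R * (U * W)) N)
    {n : H} (hn : n ∈ N) :
    n * (U * n * U⁻¹) * (W * n * W⁻¹) * (U * (W * n * W⁻¹) * U⁻¹) = 1 := by
  let φ : H →* MulAut N := MulAut.conjNormal
  have hφN : ∀ g ∈ N, φ g = 1 := fun g hg => MulEquiv.ext fun m => Subtype.ext (by
    show g * (m : H) * g⁻¹ = m
    have h : g * (m : H) = m * g := congrArg Subtype.val (hc.is_comm.comm ⟨g, hg⟩ m)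
    rw [h, mul_inv_cancel_right])
  have hcong : ∀ {a b : H}, a⁻¹ * b ∈ N → φ a = φ b := fun {a b} hab => by
    rw [show b = a * (a⁻¹ * b) by group, map_mul, hφN _ hab, mul_one]
  letI : CommGroup N := { (inferInstance : Group N) with mul_comm := hc.is_comm.comm }
  set m : N := ⟨n, hn⟩
  have inv2 : ∀ k : N, k⁻¹ = k := fun k => inv_eq_of_mul_eq_one_right (Subtype.ext (by
    have := h2 _ k.2
    rwa [pow_two] at this))
  have uU : φ U * φ U = 1 := by rw [← map_mul]; exact hφN _ hUU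
  have wW : φ W * φ W = 1 := by rw [← map_mul]; exact hφN _ hWW
  have cUW : φ U * φ W = φ W * φ U := by rw [← map_mul, ← map_mul]; exact hcong hUW
  have cRU : φ R * φ U = φ W * φ R := by rw [← map_mul, ← map_mul]; exact hcong hRU
  have cRW : φ R * φ W = φ U * φ W * φ R := by rw [← map_mul, ← map_mul, ← map_mul]; exact hcong hRW
  have fp : ∀ g, Fpf g N → ∀ k : N, k * φ g k * φ g⁻¹ k = 1 := fun g f k => Subtype.ext (by
    show (k : H) * (g * k * g⁻¹) * (g⁻¹ * k * (g⁻¹)⁻¹) = 1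
    rw [inv_inv]; exact f.prod_eq k.2)
  let P : N → N := fun k => k * φ U k * φ W k * φ U (φ W k)
  have uinv : (φ U)⁻¹ = φ U := inv_eq_of_mul_eq_one_right uU
  have winv : (φ W)⁻¹ = φ W := inv_eq_of_mul_eq_one_right wW
  have hsum : P (φ R m) * P (φ R⁻¹ m) = 1 := by
    have e1 : φ (R * U) m = φ W (φ R m) := by rw [map_mul, cRU]; rfl
    have e2 : φ (R * W) m = φ U (φ W (φ R m)) := by rw [map_mul, cRW]; rfl
    have e3 : φ (R * (U * W)) m = φ U (φ R m) := by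
      rw [map_mul, map_mul, ← mul_assoc, cRU, mul_assoc, cRW, ← mul_assoc, ← mul_assoc, ← cUW,
        mul_assoc (φ U) (φ W) (φ W), wW, mul_one]
      rfl
    have d1 : φ (R * U)⁻¹ m = φ U (φ R⁻¹ m) := by
      rw [map_inv, map_mul, mul_inv_rev, uinv, ← map_inv]; rfl
    have d2 : φ (R * W)⁻¹ m = φ W (φ R⁻¹ m) := by
      rw [map_inv, map_mul, mul_inv_rev, winv, ← map_inv]; rfl
    have d3 : φ (R * (U * W))⁻¹ m = φ U (φ W (φ R⁻¹ m)) := by
      rw [map_inv, map_mul, map_mul, mul_inv_rev, mul_inv_rev, winv, uinv, ← cUW, ← map_inv]; rfl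
    have h1 := fp R f1 m
    have h2' := fp _ f2 m
    have h3 := fp _ f3 m
    have h4 := fp _ f4 m
    rw [e1, d1] at h2'
    rw [e2, d2] at h3
    rw [e3, d3] at h4
    have hm4 : m * m * (m * m) = 1 := by
      rw [mul_eq_one_iff_eq_inv.2 (inv2 m).symm, one_mul]
    have alg : ∀ m' a b c d e f g k : N, a * c * d * b * (e * f * g * k) * (m' * m' * (m' * m')) =
        (m' * a * e) * (m' * d * f) * (m' * b * g) * (m' * c * k) := fun m' a b c d e f g k => by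
      simp only [mul_comm, mul_assoc, mul_left_comm]
    calc P (φ R m) * P (φ R⁻¹ m)
        = P (φ R m) * P (φ R⁻¹ m) * (m * m * (m * m)) := by rw [hm4, mul_one]
      _ = (m * φ R m * φ R⁻¹ m) * (m * φ W (φ R m) * φ U (φ R⁻¹ m)) *
          (m * φ U (φ W (φ R m)) * φ W (φ R⁻¹ m)) * (m * φ U (φ R m) * φ U (φ W (φ R⁻¹ m))) :=
            alg m _ _ _ _ _ _ _ _
      _ = 1 := by rw [h1, h2', h3, h4, one_mul, one_mul, one_mul]
  have hS : P m * P (φ R m) * P (φ R⁻¹ m) = 1 := by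
    have h1 := fp R f1 m
    have alg : ∀ a b c a' b' c' a'' b'' c'' a3 b3 c3 : N,
        a * a' * a'' * a3 * (b * b' * b'' * b3) * (c * c' * c'' * c3) =
          (a * b * c) * (a' * b' * c') * (a'' * b'' * c'') * (a3 * b3 * c3) := by
      intros
      simp only [mul_comm, mul_assoc, mul_left_comm]
    calc P m * P (φ R m) * P (φ R⁻¹ m)
        = (m * φ R m * φ R⁻¹ m) * φ U (m * φ R m * φ R⁻¹ m) * φ W (m * φ R m * φ R⁻¹ m) *
          φ U (φ W (m * φ R m * φ R⁻¹ m)) := by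
            simp only [map_mul]
            exact alg _ _ _ _ _ _ _ _ _ _ _ _
      _ = 1 := by rw [h1, map_one, map_one, map_one, mul_one, mul_one, mul_one]
  rw [mul_assoc, hsum, mul_one] at hS
  exact congrArg Subtype.val hS

end Cfsg.Agent.GL23Amalgam
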