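import Mathlib.GroupTheory.SpecificGroups.Alternating
import Mathlib.LinearAlgebra.Matrix.Determinant.Basic
import Cfsg.Agent.Lib.SelfThree.Quot

/-!
Facts about `S₃`, `A₅` and `L₂(7)` used for the quotients of an involution centralizer.
-/

set_option autoImplicit false
set_option maxRecDepth 10000
set_option synthInstance.maxSize 1000
set_option synthInstance.maxHeartbeats 400000

namespace Cfsg.Agent.GL23Amalgam

theorem perm3_facts : ∀ x : Equiv.Perm (Fin 3), x ≠ 1 → x * x * x = 1 → ∀ u, u * u = 1 → u * x * u = x * x →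
    u ≠ 1 ∧ ∀ q, u * q = q * u → (q = 1 ∨ q = u) ∧
      (q * q = 1 → q * (x * q * (x * x)) = x * q * (x * x) * q → q = 1) := by decide +kernel

/-- The standard element of order 3 of `A₅`. -/
def threeCycle : alternatingGroup (Fin 5) :=
  ⟨Equiv.swap 0 1 * Equiv.swap 1 2, Equiv.Perm.mem_alternatingGroup.2 (by decide +kernel)⟩

theorem alt5_cls : ∀ x : alternatingGroup (Fin 5), x ≠ 1 → x * x * x = 1 →
    ∃ g, g * x = threeCycle * g := by decide +kernel

theorem alt5_std : ∀ u : alternatingGroup (Fin 5), u * u = 1 → u * threeCycle * u = threeCycle * threeCycle →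
    u ≠ 1 ∧ ∀ q : alternatingGroup (Fin 5), u * q = q * u →
      (q * q = 1 → q * (threeCycle * q * (threeCycle * threeCycle)) =
          threeCycle * q * (threeCycle * threeCycle) * q → q = 1) := by decide +kernel

theorem alt5_klein : ∀ u : alternatingGroup (Fin 5), u * u = 1 → u * threeCycle * u = threeCycle * threeCycle →
    ∀ q : alternatingGroup (Fin 5), u * q = q * u → q ≠ 1 → q ≠ u →
      threeCycle * q * (threeCycle * q) * (threeCycle * q) * (threeCycle * q) * (threeCycle * q) = 1 ∧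
        q * q = 1 := by decide +kernel

theorem alt5_rot : ∀ u : alternatingGroup (Fin 5), u * u = 1 → u * threeCycle * u = threeCycle * threeCycle →
    ∀ q : alternatingGroup (Fin 5), u * q = q * u → q ≠ 1 → q ≠ u →
      ∃ r, r * r * r = 1 ∧ r * u = q * r ∧ r * q = u * q * r ∧ r ≠ 1 := by decide +kernel

/-- A `2 × 2` matrix over the field of seven elements as four numbers. -/
abbrev M7 : Type := ZMod 7 × ZMod 7 × ZMod 7 × ZMod 7

/-- The product. -/
def mul7 (A B : M7) : M7 :=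
  (A.1 * B.1 + A.2.1 * B.2.2.1, A.1 * B.2.1 + A.2.1 * B.2.2.2,
    A.2.2.1 * B.1 + A.2.2.2 * B.2.2.1, A.2.2.1 * B.2.1 + A.2.2.2 * B.2.2.2)

/-- Equality up to sign. -/
def eqv7 (A B : M7) : Bool := decide (A = B) || decide (A = (-B.1, -B.2.1, -B.2.2.1, -B.2.2.2))

/-- The identity. -/
def one7 : M7 := (1, 0, 0, 1)

/-- All matrices of determinant one. -/
def list7 : List M7 :=
  let z : List (ZMod 7) := [0, 1, 2, 3, 4, 5, 6]
  (z.flatMap fun a => z.flatMap fun b => z.flatMap fun c => z.map fun d => ((a, b, c, d) : M7)).filter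
    fun A => decide (A.1 * A.2.2.2 - A.2.1 * A.2.2.1 = 1)

/-- The fact to check on representatives. -/
def check7 : Bool :=
  list7.all fun U => !(eqv7 (mul7 U U) one7 && !eqv7 U one7) ||
    list7.all fun A => !(eqv7 (mul7 A A) one7 && !eqv7 A one7 && eqv7 (mul7 U A) (mul7 A U) && !eqv7 A U) ||
      list7.all fun D => !eqv7 (mul7 U D) (mul7 D U) ||
        ((eqv7 (mul7 D D) one7 || eqv7 (mul7 D D) U) &&
          (!eqv7 (mul7 A D) (mul7 D A) || eqv7 D one7 || eqv7 D U || eqv7 D A || eqv7 D (mul7 A U)))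

theorem check7_true : check7 = true := by decide +kernel

/-- The entries of a matrix. -/
def tup7 (A : Matrix.SpecialLinearGroup (Fin 2) (ZMod 7)) : M7 := (A.1 0 0, A.1 0 1, A.1 1 0, A.1 1 1)

theorem tup7_mem (A : Matrix.SpecialLinearGroup (Fin 2) (ZMod 7)) : tup7 A ∈ list7 := by
  have hz : ∀ a : ZMod 7, a ∈ ([0, 1, 2, 3, 4, 5, 6] : List (ZMod 7)) := by decide
  simp only [list7, List.mem_filter, List.mem_flatMap, List.mem_map, decide_eq_true_eq]
  refine ⟨⟨_, hz _, _, hz _, _, hz _, _, hz _, rfl⟩, ?_⟩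
  have h := A.2
  rw [Matrix.det_fin_two] at h
  exact h

theorem tup7_mul (A B : Matrix.SpecialLinearGroup (Fin 2) (ZMod 7)) :
    tup7 (A * B) = mul7 (tup7 A) (tup7 B) := by
  simp [tup7, mul7, Matrix.mul_apply, Fin.sum_univ_two]

theorem eqv7_iff (A B : Matrix.SpecialLinearGroup (Fin 2) (ZMod 7)) :
    eqv7 (tup7 A) (tup7 B) = true ↔
      (QuotientGroup.mk' (Subgroup.center _) A : Matrix.ProjectiveSpecialLinearGroup (Fin 2) (ZMod 7)) =
        QuotientGroup.mk' (Subgroup.center _) B := by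
  rw [eqv7, Bool.or_eq_true, decide_eq_true_eq, decide_eq_true_eq,
    ← mul_inv_eq_one (a := (QuotientGroup.mk' (Subgroup.center _) A :
      Matrix.ProjectiveSpecialLinearGroup (Fin 2) (ZMod 7))), ← map_inv, ← map_mul, SelfThree.psl_one_iff]
  have hd := B.2
  rw [Matrix.det_fin_two] at hd
  simp only [tup7, Matrix.SpecialLinearGroup.coe_mul, Matrix.SpecialLinearGroup.coe_inv,
    Matrix.adjugate_fin_two, Matrix.mul_apply, Fin.sum_univ_two, Prod.mk.injEq]
  simp
  constructor
  · rintro (⟨h1, h2, h3, h4⟩ | ⟨h1, h2, h3, h4⟩) <;> rw [h1, h2, h3, h4] <;>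
      refine ⟨by ring, by ring, by ring⟩
  · rintro ⟨h1, h2, h3⟩
    obtain ⟨r, hr⟩ : ∃ r, r = A.1 0 0 * B.1 1 1 + -(A.1 0 1 * B.1 1 0) := ⟨_, rfl⟩
    have e1 : A.1 0 0 = r * B.1 0 0 := by
      linear_combination -(A.1 0 0) * hd - B.1 0 0 * hr + B.1 1 0 * h1
    have e2 : A.1 0 1 = r * B.1 0 1 := by
      linear_combination -(A.1 0 1) * hd - B.1 0 1 * hr + B.1 1 1 * h1
    have e3 : A.1 1 0 = r * B.1 1 0 := by
      linear_combination -(A.1 1 0) * hd + B.1 0 0 * h2 - B.1 1 0 * h3 - B.1 1 0 * hr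
    have e4 : A.1 1 1 = r * B.1 1 1 := by
      linear_combination -(A.1 1 1) * hd + B.1 0 1 * h2 - B.1 1 1 * h3 - B.1 1 1 * hr
    have hA := A.2
    rw [Matrix.det_fin_two, e1, e2, e3, e4] at hA
    have hr2 : r * r = 1 := by linear_combination hA - r * r * hd
    have key : ∀ r : ZMod 7, r * r = 1 → r = 1 ∨ r = -1 := by decide
    rcases key r hr2 with rfl | rfl
    · left; simp [e1, e2, e3, e4]
    · right; simp [e1, e2, e3, e4]

theorem psl7_facts (U A D : Matrix.ProjectiveSpecialLinearGroup (Fin 2) (ZMod 7)) (hU : U * U = 1)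
    (hU1 : U ≠ 1) (hA : A * A = 1) (hA1 : A ≠ 1) (hUA : U * A = A * U) (hAU : A ≠ U) (hUD : U * D = D * U) :
    (D * D = 1 ∨ D * D = U) ∧ (A * D = D * A → D = 1 ∨ D = U ∨ D = A ∨ D = A * U) := by
  obtain ⟨u, rfl⟩ := QuotientGroup.mk'_surjective _ U
  obtain ⟨a, rfl⟩ := QuotientGroup.mk'_surjective _ A
  obtain ⟨d, rfl⟩ := QuotientGroup.mk'_surjective _ D
  have h := check7_true
  simp only [check7, List.all_eq_true] at h
  have h1 := h _ (tup7_mem u)
  simp only [Bool.or_eq_true, Bool.not_eq_true', List.all_eq_true, Bool.and_eq_true] at h1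
  have hone : one7 = tup7 1 := by simp [one7, tup7]
  rw [hone] at h1
  simp only [Bool.and_eq_false_iff, Bool.not_eq_false'] at h1
  rw [← tup7_mul] at h1
  rcases h1 with (h1 | h1) | h1
  · refine absurd ((eqv7_iff _ _).2 (show _ = _ from ?_)) (by rw [h1]; decide)
    rw [map_mul, map_one]; exact hU
  · exact absurd ((eqv7_iff _ _).1 h1) (by rw [map_one]; exact hU1)
  rcases h1 _ (tup7_mem a) with h2 | h2
  · simp only [Bool.and_eq_false_iff, Bool.not_eq_false', ← tup7_mul] at h2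
    rcases h2 with ((h2 | h2) | h2) | h2
    · refine absurd ((eqv7_iff _ _).2 (show _ = _ from ?_)) (by rw [h2]; decide)
      rw [map_mul, map_one]; exact hA
    · exact absurd ((eqv7_iff _ _).1 h2) (by rw [map_one]; exact hA1)
    · refine absurd ((eqv7_iff _ _).2 (show _ = _ from ?_)) (by rw [h2]; decide)
      rw [map_mul, map_mul]; exact hUA
    · exact absurd ((eqv7_iff _ _).1 h2) hAU
  rcases h2 _ (tup7_mem d) with h3 | h3
  · simp only [← tup7_mul] at h3
    refine absurd ((eqv7_iff _ _).2 (show _ = _ from ?_)) (by rw [h3]; decide)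
    rw [map_mul, map_mul]; exact hUD
  · simp only [← tup7_mul, eqv7_iff, map_mul] at h3
    obtain ⟨h4, h5⟩ := h3
    refine ⟨h4, fun hAD => ?_⟩
    rcases h5 with (((h6 | h6) | h6) | h6) | h6
    exacts [absurd ((eqv7_iff (a * d) (d * a)).2 (by rw [map_mul, map_mul]; exact hAD)) (by rw [h6]; decide),
      Or.inl h6, Or.inr (Or.inl h6), Or.inr (Or.inr (Or.inl h6)), Or.inr (Or.inr (Or.inr h6))]

end Cfsg.Agent.GL23Amalgam
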