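import Cfsg.Agent.S3331
import Cfsg.Agent.Lib.GL23Amalgam.Local
import Cfsg.Agent.Lib.GL23Amalgam.Norm
import Cfsg.Agent.Lib.GL23Amalgam.Small

/-!
The three possible shapes of the centralizer of `t`, and the relation each of them gives.
-/

set_option autoImplicit false
set_option maxRecDepth 10000
set_option linter.style.haveILetI false

namespace Cfsg.Agent.GL23Amalgam

open CosetCert SelfThree

theorem dT_facts : ev genA [2, 0, 2] = ev genA [0] ∧
    ev genA [2, 1, 2, 1] = ev genA [0] ∧ ev genA (wi ++ wi) = ev genA [0] ∧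
    ev genA (wu ++ wx ++ wu ++ wx) = 1 ∧ ev genA (wu ++ wi) = ev genA (wi ++ wu ++ [0]) ∧
    ev genA (wconj wi ++ wu ++ wconj wi ++ wu) ∈ [ev genA wi, ev genA (wi ++ [0])] := by decide +kernel

namespace Setup

variable {G : Type*} [Group G] (S : Setup G)

/-- The first shape: a fixed-point-free relation for `p`. -/
def Main (p : List ℕ) : Prop :=
  (p = wd ∨ p = wd ++ wu) ∧ S.InT (S.wp (wfp p)) ∧ S.wp wd ^ 4 = 1 ∧
    Commute (S.wp (wconj p)) (S.wp wd ^ 2) ∧ Commute (S.wp (wconj wi)) (S.wp wd ^ 2)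

/-- The second shape. -/
def Alt : Prop := S.wp wd * S.wp wd = 1 ∧ S.InT (S.wp wsi)

theorem y_conj : S.wp [2, 3] * S.t * (S.wp [2, 3])⁻¹ = S.gen 1 ∧
    S.wp [2, 3] * S.gen 1 * (S.wp [2, 3])⁻¹ = S.wp wu ∧
    S.wp [2, 3] * S.wp wu * (S.wp [2, 3])⁻¹ = S.t := by
  have e : ∀ g, S.wp [2, 3] * g * (S.wp [2, 3])⁻¹ = S.gen 2 * (S.gen 3 * g * S.gen 3) * S.gen 2 := fun g => by
    rw [wp_two, mul_inv_rev, S.gen_self, S.gen_self]; group
  have hav : S.gen 2 * S.wp wu * S.gen 2 = S.gen 1 := by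
    rw [← S.aT.2]
    calc S.gen 2 * (S.gen 2 * S.gen 1 * S.gen 2) * S.gen 2
        = S.gen 2 * S.gen 2 * S.gen 1 * (S.gen 2 * S.gen 2) := by group
      _ = S.gen 1 := by rw [S.gen_inv]; group
  have hbu : S.gen 3 * S.wp wu * S.gen 3 = S.t := by
    rw [← S.bT.2]
    calc S.gen 3 * (S.gen 3 * S.t * S.gen 3) * S.gen 3 = S.gen 3 * S.gen 3 * S.t * (S.gen 3 * S.gen 3) := by group
      _ = S.t := by rw [S.gen_inv]; group
  refine ⟨?_, ?_, ?_⟩
  · rw [e, S.bT.2, hav]
  · rw [e, S.bT.1, S.aT.2]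
  · rw [e, hbu, S.aT.1]

theorem wd_eq : S.wp wd = S.wp [2, 3] ^ 3 := by
  rw [pow_three, ← wp_append, ← wp_append]; rfl

theorem d_comm : Commute (S.wp wd) S.t ∧ Commute (S.wp wd) (S.gen 1) ∧ Commute (S.wp wd) (S.wp wu) := by
  obtain ⟨h1, h2, h3⟩ := S.y_conj
  have e : ∀ g, S.wp wd * g * (S.wp wd)⁻¹ =
      S.wp [2, 3] * (S.wp [2, 3] * (S.wp [2, 3] * g * (S.wp [2, 3])⁻¹) * (S.wp [2, 3])⁻¹) * (S.wp [2, 3])⁻¹ :=
    fun g => by rw [S.wd_eq, pow_three]; group
  refine ⟨?_, ?_, ?_⟩ <;> refine mul_inv_eq_iff_eq_mul.1 ?_ <;> rw [e]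
  · rw [h1, h2, h3]
  · rw [h2, h3, h1]
  · rw [h3, h1, h2]

theorem t_ne_v : S.t ≠ S.gen 1 := by
  show S.gen 0 ≠ S.gen 1
  rw [← S.wp_one, ← S.wp_one]
  exact S.neA (by decide) (by decide) (by decide +kernel)

theorem tv_cases : S.t ≠ S.wp wu ∧ S.gen 1 ≠ S.wp wu ∧ S.wp wu ≠ 1 ∧ S.gen 2 ∉ ({1, S.t} : Set G) ∧
    S.gen 2 ≠ S.wp wu ∧ S.gen 2 ≠ S.gen 1 := by
  refine ⟨?_, ?_, ?_, ?_, ?_, ?_⟩
  · show S.gen 0 ≠ _
    rw [← S.wp_one]; exact S.neA (by decide) (by decide) (by decide +kernel)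
  · rw [← S.wp_one]; exact S.neA (by decide) (by decide) (by decide +kernel)
  · rw [← S.wp_nil]; exact S.neA (by decide) (by decide) (by decide +kernel)
  · rintro (h | h)
    · rw [← S.wp_one, ← S.wp_nil] at h
      exact S.neA (by decide) (by decide) (by decide +kernel) h
    · have h' : S.wp [2] = S.wp [0] := by rw [wp_one, wp_one]; exact h
      exact S.neA (by decide) (by decide) (by decide +kernel) h'
  · rw [← S.wp_one]; exact S.neA (by decide) (by decide) (by decide +kernel)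
  · rw [← S.wp_one, ← S.wp_one]; exact S.neA (by decide) (by decide) (by decide +kernel)

/-- An element fixed by `y` and lying in `{1, t}` is trivial. -/
theorem eq_one_of_InT {g : G} (hg : S.InT g) (hy : Commute (S.wp [2, 3]) g) : g = 1 := by
  rcases hg with h | h
  · exact h
  · exfalso
    rw [h] at hy
    have e := S.y_conj.1
    rw [hy.eq, mul_inv_cancel_right] at e
    exact S.t_ne_v e

theorem y_d : Commute (S.wp [2, 3]) (S.wp wd) := by rw [S.wd_eq]; exact (Commute.refl _).pow_right _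

theorem a_d : S.gen 2 * S.wp wd * S.gen 2 = (S.wp wd)⁻¹ := by
  rw [← S.wp_reverse, ← S.wp_one, ← wp_append, ← wp_append]
  show S.wp [2, 2, 3, 2, 3, 2, 3, 2] = S.wp [3, 2, 3, 2, 3, 2]
  simp only [wp, wprod, List.map_cons, List.map_nil, List.prod_cons, List.prod_nil]
  rw [← mul_assoc (S.gen 2) (S.gen 2), S.gen_inv, one_mul]

theorem wp_i : S.wp wi = S.gen 2 * S.gen 1 := S.wp_two 2 1

theorem i_d : S.wp wi * S.wp wd * (S.wp wi)⁻¹ = (S.wp wd)⁻¹ := by
  rw [S.wp_i, mul_inv_rev, S.gen_self, S.gen_self, ← S.a_d]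
  calc S.gen 2 * S.gen 1 * S.wp wd * (S.gen 1 * S.gen 2)
      = S.gen 2 * (S.gen 1 * S.wp wd) * S.gen 1 * S.gen 2 := by group
    _ = S.gen 2 * S.wp wd * (S.gen 1 * S.gen 1) * S.gen 2 := by rw [← S.d_comm.2.1.eq]; group
    _ = _ := by rw [S.gen_inv, mul_one]

theorem i_u : S.InT ((S.wp wu * S.wp wi)⁻¹ * (S.wp wi * S.wp wu)) := by
  right
  have h := S.eqA (u := wu ++ wi) (v := wi ++ wu ++ [0]) (by decide) (by decide) dT_facts.2.2.2.2.1
  show _ = S.t
  rw [← wp_append, show S.wp (wu ++ wi) = S.wp (wi ++ wu ++ [0]) from h, wp_append, wp_append, wp_one]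
  rw [mul_inv_rev, S.gen_self]; group

section quotient

variable [Finite G]

/-- The consequences of `p` and `i` lying in a subgroup on which `x` acts freely. -/
theorem main_of_fpf {p : List ℕ} (hp : p = wd ∨ p = wd ++ wu) (hpC : S.wp p ∈ S.Ct) (hxC : S.wp wx ∈ S.Ct)
    (hiC : S.wp wi ∈ S.Ct) (N : Subgroup (S.Ct ⧸ S.Nt)) (hF : Fpf (S.red ⟨_, hxC⟩) N)
    (hpN : S.red ⟨_, hpC⟩ ∈ N) (hiN : S.red ⟨_, hiC⟩ ∈ N) : S.Main p := by
  obtain ⟨hdt, hdv, hdu⟩ := S.d_comm
  have hu2 : S.wp wu ^ 2 = 1 := by rw [pow_two, S.uu]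
  have hp2 : S.wp p ^ 2 = S.wp wd ^ 2 := by
    rcases hp with rfl | rfl
    · rfl
    · rw [wp_append, hdu.mul_pow, hu2, mul_one]
  have hp4 : S.wp p ^ 4 = S.wp wd ^ 4 := by
    rw [show 4 = 2 * 2 from rfl, pow_mul, hp2, ← pow_mul]
  have hinv : S.InT ((S.wp wi * S.wp p * (S.wp wi)⁻¹) * S.wp p) := by
    rcases hp with rfl | rfl
    · left; rw [S.i_d, inv_mul_cancel]
    · have e : S.wp wi * (S.wp wd * S.wp wu) * (S.wp wi)⁻¹ * (S.wp wd * S.wp wu) =
          (S.wp wd)⁻¹ * (S.wp wi * S.wp wu * (S.wp wi)⁻¹) * (S.wp wu * S.wp wd) := by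
        rw [← S.i_d]; simp only [mul_assoc, inv_mul_cancel_left, hdu.eq]
        rw [← mul_assoc (S.wp wu) (S.wp wd), ← hdu.eq, mul_assoc]
      rw [wp_append, e]
      rcases S.i_u with h | h
      · left
        have h' := inv_mul_eq_one.1 h
        calc (S.wp wd)⁻¹ * (S.wp wi * S.wp wu * (S.wp wi)⁻¹) * (S.wp wu * S.wp wd)
            = (S.wp wd)⁻¹ * (S.wp wu * S.wp wu) * S.wp wd := by rw [← h']; group
          _ = 1 := by rw [S.uu]; group
      · right
        have h' := inv_mul_eq_iff_eq_mul.1 h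
        calc (S.wp wd)⁻¹ * (S.wp wi * S.wp wu * (S.wp wi)⁻¹) * (S.wp wu * S.wp wd)
            = (S.wp wd)⁻¹ * (S.wp wu * (S.wp wi * S.t * (S.wp wi)⁻¹) * S.wp wu) * S.wp wd := by rw [h']; group
          _ = (S.wp wd)⁻¹ * (S.wp wu * S.t * S.wp wu) * S.wp wd := by
              rw [(S.mem_Ct.1 hiC).eq, mul_inv_cancel_right]
          _ = (S.wp wd)⁻¹ * S.t * S.wp wd := by rw [← S.tu.eq, mul_assoc S.t, S.uu, mul_one]
          _ = S.t := by rw [mul_assoc, ← hdt.eq, inv_mul_cancel_left]
  have hii : S.red ⟨_, hiC⟩ * S.red ⟨_, hiC⟩ = 1 := by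
    rw [← map_mul, red_eq_one]
    right
    show S.wp wi * S.wp wi = S.t
    rw [← wp_append]
    exact (S.eqA (by decide) (by decide) dT_facts.2.2.1).trans (S.wp_one 0)
  obtain ⟨h4, hcomm, hq⟩ := fpf_pair hF hiN hpN hii (by
    rw [eq_inv_iff_mul_eq_one, ← map_inv, ← map_mul, ← map_mul, ← map_mul, red_eq_one]
    exact hinv)
  have hprod := hF.prod_eq hpN
  rw [← map_inv, ← map_mul, ← map_mul, ← map_mul, ← map_mul, ← map_mul, ← map_mul, red_eq_one] at hprod
  rw [← map_pow, red_eq_one] at h4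
  push_cast at h4
  rw [hp4] at h4
  have hd4 : S.wp wd ^ 4 = 1 := S.eq_one_of_InT h4 (S.y_d.pow_right _)
  have hD : S.wp (wconj p) = S.wp wx * S.wp p * (S.wp wx)⁻¹ := by
    rw [wconj, wp_append, wp_append, x_inv]
  have hQ : S.wp (wconj wi) = S.wp wx * S.wp wi * (S.wp wx)⁻¹ := by
    rw [wconj, wp_append, wp_append, x_inv]
  have hDC : Commute S.t (S.wp (wconj p)) := by
    rw [hD]; exact (S.tx.mul_right (S.mem_Ct.1 hpC).symm).mul_right S.tx.inv_right
  have hpt : Commute S.t (S.wp p) := (S.mem_Ct.1 hpC).symm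
  -- lifting commutation modulo `⟨t⟩` to commutation with squares
  have lift : ∀ a b : G, Commute S.t a → Commute S.t b → S.InT ((a * b)⁻¹ * (b * a)) → Commute a (b ^ 2) := by
    intro a b ha hb h
    rcases h with h | h
    · exact Commute.pow_right (inv_mul_eq_one.1 h) 2
    · have h' : b * a = a * b * S.t := inv_mul_eq_iff_eq_mul.1 h
      show a * b ^ 2 = b ^ 2 * a
      rw [pow_two]
      calc a * (b * b) = a * (b * b) * (S.t * S.t) := by rw [S.tt, mul_one]
        _ = a * b * (b * S.t) * S.t := by group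
        _ = a * b * (S.t * b) * S.t := by rw [hb.eq]
        _ = (a * b * S.t) * b * S.t := by group
        _ = b * a * b * S.t := by rw [h']
        _ = b * (a * b * S.t) := by group
        _ = b * b * a := by rw [← h', mul_assoc]
  have hpD : S.InT ((S.wp p * S.wp (wconj p))⁻¹ * (S.wp (wconj p) * S.wp p)) := by
    have h := hcomm.eq
    rw [← map_inv, ← map_mul, ← map_mul, ← map_mul, ← map_mul, red_eq] at h
    rw [hD]; exact h
  have hDp2 : Commute (S.wp p) (S.wp (wconj p) ^ 2) := lift _ _ hpt hDC hpD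
  have hDj : Commute (S.wp (wconj p)) (S.wp wd ^ 2) := by
    rw [← hp2]
    refine lift _ _ hDC hpt ?_
    rcases hpD with h | h
    · left; rw [inv_mul_eq_one] at h ⊢; exact h.symm
    · right
      calc (S.wp (wconj p) * S.wp p)⁻¹ * (S.wp p * S.wp (wconj p))
          = ((S.wp p * S.wp (wconj p))⁻¹ * (S.wp (wconj p) * S.wp p))⁻¹ := by group
        _ = S.t := by rw [h, S.gen_self]
  refine ⟨hp, ?_, hd4, hDj, ?_⟩
  · rw [wfp, wp_append, wp_append, wp_append, wp_append, wp_append, wp_append, x_inv]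
    rcases hprod with h | h
    · left; rw [← h]; push_cast; group
    · right; rw [← h]; push_cast; group
  · -- the conjugate of `i` inverts `p` up to a square and an element of `⟨t⟩`
    have h := hq
    simp only [← map_inv, ← map_mul, red_eq] at h
    push_cast at h
    rw [← hD, ← hQ] at h
    set q := S.wp (wconj wi)
    set E := S.wp (wconj p)
    set P := S.wp p
    have hE4 : E ^ 4 = 1 := by
      rw [hD, conj_pow, hp4, hd4]; group
    have hqs : q * P ^ 2 * q⁻¹ = P ^ 2 := by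
      have hc : Commute P⁻¹ (E * E)⁻¹ := by rw [← pow_two]; exact hDp2.inv_inv
      have e : (P⁻¹ * (E * E)⁻¹) ^ 2 = P ^ 2 := by
        have hP4 : P ^ 4 = 1 := hp4.trans hd4
        rw [hc.mul_pow, show ((E * E)⁻¹) ^ 2 = (E ^ 4)⁻¹ by group, hE4, inv_one, mul_one, inv_pow,
          inv_eq_iff_mul_eq_one, ← pow_add]
        exact hP4
      rcases h with h | h
      · rw [← conj_pow, inv_mul_eq_one.1 h, e]
      · have h' := inv_mul_eq_iff_eq_mul.1 h
        rw [h', (show Commute (q * P * q⁻¹) S.t from ?_).mul_pow, conj_pow, pow_two S.t, S.tt, mul_one] at e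
        · exact e
        · have hqC : Commute S.t q := by
            rw [show q = S.wp wx * S.wp wi * (S.wp wx)⁻¹ from hQ]
            exact (S.tx.mul_right (S.mem_Ct.1 hiC).symm).mul_right S.tx.inv_right
          exact ((hqC.mul_right hpt).mul_right hqC.inv_right).symm
    show q * S.wp wd ^ 2 = S.wp wd ^ 2 * q
    rw [← hp2]
    exact mul_inv_eq_iff_eq_mul.1 hqs

/-- The three shapes. -/
theorem cases : (∃ p, S.Main p) ∨ S.Alt ∨ S.wp wd = 1 := by
  obtain ⟨hdt, hdv, hdu⟩ := S.d_comm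
  have hxC : S.wp wx ∈ S.Ct := S.mem_Ct.2 S.tx.symm
  have hdC : S.wp wd ∈ S.Ct := S.mem_Ct.2 hdt
  have huC : S.wp wu ∈ S.Ct := S.mem_Ct.2 S.tu.symm
  have haC : S.gen 2 ∈ S.Ct := S.mem_Ct.2 (mul_inv_eq_iff_eq_mul.1 (by rw [S.gen_self]; exact S.aT.1))
  have hiC : S.wp wi ∈ S.Ct := by
    rw [S.wp_i]; exact mul_mem haC (S.mem_Ct.2 S.tv.symm)
  have hduC : S.wp (wd ++ wu) ∈ S.Ct := by rw [wp_append]; exact mul_mem hdC huC
  set X := S.red ⟨_, hxC⟩ with hX
  set U := S.red ⟨_, huC⟩ with hU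
  set D := S.red ⟨_, hdC⟩ with hD
  set I := S.red ⟨_, hiC⟩ with hI
  obtain ⟨hXo, hXc⟩ := S.red_x_spec hxC
  have hX3 : X * X * X = 1 := by rw [mul_assoc, ← pow_three, ← hXo, pow_orderOf_eq_one]
  have hXinv : X⁻¹ = X * X := inv_eq_of_mul_eq_one_right (by rw [← mul_assoc, hX3])
  have hUU : U * U = 1 := by rw [hU, ← map_mul, red_eq_one]; exact Or.inl S.uu
  have hUX : U * X * U = X * X := by
    rw [← hXinv, eq_inv_iff_mul_eq_one, hU, hX, ← map_mul, ← map_mul, ← map_mul, red_eq_one]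
    left
    show S.wp wu * S.wp wx * S.wp wu * S.wp wx = 1
    rw [← wp_append, ← wp_append, ← wp_append, ← S.wp_nil]
    exact S.eqA (by decide) (by decide) dT_facts.2.2.2.1
  have hUD : U * D = D * U := by
    rw [hU, hD, ← map_mul, ← map_mul, red_eq]; left
    rw [inv_mul_eq_one]; exact hdu.symm.eq
  have hUI : U * I = I * U := by rw [hU, hI, ← map_mul, ← map_mul, red_eq]; exact S.i_u
  have hII : I * I = 1 := by
    rw [hI, ← map_mul, red_eq_one]; right
    show S.wp wi * S.wp wi = S.t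
    rw [← wp_append]
    exact (S.eqA (by decide) (by decide) dT_facts.2.2.1).trans (S.wp_one 0)
  have hIp : I * (X * I * (X * X)) = X * I * (X * X) * I := by
    rw [← hXinv, hX, hI, ← map_inv, ← map_mul, ← map_mul, ← map_mul, ← map_mul, red_eq]
    have h1 : S.wp (wi ++ wconj wi) = S.wp (wconj wi ++ wi) ∨
        S.wp (wi ++ wconj wi) = S.wp (wconj wi ++ wi ++ [0]) := by
      have : ev genA (wi ++ wconj wi) = ev genA (wconj wi ++ wi) ∨
          ev genA (wi ++ wconj wi) = ev genA (wconj wi ++ wi ++ [0]) := by decide +kernel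
      rcases this with h | h
      · exact Or.inl (S.eqA (by decide) (by decide) h)
      · exact Or.inr (S.eqA (by decide) (by decide) h)
    simp only [wp_append, wconj, x_inv, wp_one] at h1
    show S.InT ((S.wp wi * (S.wp wx * S.wp wi * (S.wp wx)⁻¹))⁻¹ *
      (S.wp wx * S.wp wi * (S.wp wx)⁻¹ * S.wp wi))
    rcases h1 with h | h
    · left; rw [inv_mul_eq_one, h]
    · right; rw [h, mul_inv_rev, S.gen_self]; group
  have hX3card : Nat.card (Subgroup.zpowers X) = 3 := by rw [Nat.card_zpowers, hXo]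
  rcases S3331.result (Subgroup.zpowers X) hX3card (by
    rw [Subgroup.zpowers_eq_closure, Subgroup.centralizer_closure, hXc, Subgroup.zpowers_eq_closure]) with
    ⟨N, hN, -, hcop, hq⟩ | ⟨N, hN, hNc, hN2, ⟨e⟩⟩ | ⟨⟨e⟩⟩
  · haveI := hN
    have hN3 : ¬ 3 ∣ Nat.card N := fun h => by
      have h' := Nat.dvd_gcd h (dvd_refl 3)
      rw [show Nat.gcd (Nat.card N) 3 = 1 from hcop] at h'
      norm_num at h'
    have hXN : X ∉ N := fun h => hN3 (hXo ▸ Subgroup.orderOf_dvd_natCard _ h)
    rcases hq with hq | ⟨⟨e⟩⟩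
    · exfalso
      haveI : Fact (Nat.Prime 3) := ⟨Nat.prime_three⟩
      have hcomm : IsCyclic ((S.Ct ⧸ S.Nt) ⧸ N) := isCyclic_of_prime_card hq
      have hc := IsCyclic.commGroup.mul_comm (QuotientGroup.mk' N U) (QuotientGroup.mk' N X)
      have h := congrArg (QuotientGroup.mk' N) hUX
      simp only [map_mul] at h
      rw [hc, mul_assoc, ← map_mul, hUU, map_one, mul_one, left_eq_mul] at h
      exact hXN ((QuotientGroup.eq_one_iff _).1 h)
    · have hF : Fpf X N := fpf_of_cube hXo hXc N hN3 ⟨hXN, by rw [pow_three, ← mul_assoc, hX3]; exact N.one_mem⟩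
      set f : S.Ct ⧸ S.Nt →* Equiv.Perm (Fin 3) := e.toMonoidHom.comp (QuotientGroup.mk' N)
      have hker : ∀ g, f g = 1 ↔ g ∈ N := fun g => by
        show e (QuotientGroup.mk' N g) = 1 ↔ _
        rw [MulEquiv.map_eq_one_iff, QuotientGroup.mk'_apply, QuotientGroup.eq_one_iff]
      obtain ⟨-, hq⟩ := perm3_facts (f X) (fun h => hXN ((hker _).1 h)) (by rw [← map_mul, ← map_mul, hX3, map_one])
        (f U) (by rw [← map_mul, hUU, map_one]) (by rw [← map_mul, ← map_mul, hUX, map_mul])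
      have hIN : I ∈ N := (hker _).1 ((hq (f I) (by have := congrArg f hUI; rwa [map_mul, map_mul] at this)).2
        (by rw [← map_mul, hII, map_one]) (by simp only [← map_mul]; rw [hIp]))
      rcases (hq (f D) (by have := congrArg f hUD; rwa [map_mul, map_mul] at this)).1 with h | h
      · exact Or.inl ⟨wd, S.main_of_fpf (Or.inl rfl) hdC hxC hiC N hF ((hker _).1 h) hIN⟩
      · refine Or.inl ⟨wd ++ wu, S.main_of_fpf (Or.inr rfl) hduC hxC hiC N hF ((hker _).1 ?_) hIN⟩
        have : S.red ⟨_, hduC⟩ = D * U := by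
          rw [hD, hU, ← map_mul]; exact congrArg S.red (Subtype.ext (S.wp_append _ _))
        rw [this, map_mul, h, ← map_mul, hUU, map_one]
  · haveI := hN
    have hN3 : ¬ 3 ∣ Nat.card N := fun h => by
      haveI : Fact (Nat.Prime 2) := ⟨Nat.prime_two⟩
      obtain ⟨k, hk⟩ := IsPGroup.iff_card.1 (show IsPGroup 2 N from fun n => ⟨1, Subtype.ext (by
        simpa using hN2 _ n.2)⟩)
      rw [hk] at h
      exact absurd (Nat.Prime.dvd_of_dvd_pow Nat.prime_three h) (by norm_num)
    have hXN : X ∉ N := fun h => hN3 (hXo ▸ Subgroup.orderOf_dvd_natCard _ h)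
    set f₀ : S.Ct ⧸ S.Nt →* alternatingGroup (Fin 5) := e.toMonoidHom.comp (QuotientGroup.mk' N)
    have hker₀ : ∀ g, f₀ g = 1 ↔ g ∈ N := fun g => by
      show e (QuotientGroup.mk' N g) = 1 ↔ _
      rw [MulEquiv.map_eq_one_iff, QuotientGroup.mk'_apply, QuotientGroup.eq_one_iff]
    obtain ⟨g, hg⟩ := alt5_cls (f₀ X) (fun h => hXN ((hker₀ _).1 h)) (by rw [← map_mul, ← map_mul, hX3, map_one])
    set f : S.Ct ⧸ S.Nt →* alternatingGroup (Fin 5) := (MulAut.conj g).toMonoidHom.comp f₀
    have hker : ∀ k, f k = 1 ↔ k ∈ N := fun k => by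
      show MulAut.conj g (f₀ k) = 1 ↔ _
      rw [MulEquiv.map_eq_one_iff, hker₀]
    have hfX : f X = threeCycle := by
      show g * f₀ X * g⁻¹ = _
      rw [hg, mul_inv_cancel_right]
    have hu1 : f U * f U = 1 := by rw [← map_mul, hUU, map_one]
    have hu2 : f U * threeCycle * f U = threeCycle * threeCycle := by
      rw [← hfX, ← map_mul, ← map_mul, hUX, map_mul]
    obtain ⟨-, hq⟩ := alt5_std _ hu1 hu2
    have hIN : I ∈ N := (hker _).1 (hq (f I) (by have := congrArg f hUI; rwa [map_mul, map_mul] at this)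
      (by rw [← map_mul, hII, map_one]) (by rw [← hfX]; simp only [← map_mul]; rw [hIp]))
    have hF : Fpf X N := fpf_of_cube hXo hXc N hN3 ⟨hXN, by rw [pow_three, ← mul_assoc, hX3]; exact N.one_mem⟩
    have hcD : f U * f D = f D * f U := by
      have := congrArg f hUD
      rwa [map_mul, map_mul] at this
    by_cases hd1 : f D = 1
    · exact Or.inl ⟨wd, S.main_of_fpf (Or.inl rfl) hdC hxC hiC N hF ((hker _).1 hd1) hIN⟩
    by_cases hd2 : f D = f U
    · refine Or.inl ⟨wd ++ wu, S.main_of_fpf (Or.inr rfl) hduC hxC hiC N hF ((hker _).1 ?_) hIN⟩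
      have : S.red ⟨_, hduC⟩ = D * U := by
        rw [hD, hU, ← map_mul]; exact congrArg S.red (Subtype.ext (S.wp_append _ _))
      rw [this, map_mul, hd2, hu1]
    obtain ⟨h5, hDD⟩ := alt5_klein _ hu1 hu2 _ hcD hd1 hd2
    obtain ⟨r, hr3, hrU, hrD, hr1⟩ := alt5_rot _ hu1 hu2 _ hcD hd1 hd2
    obtain ⟨R, hR⟩ : ∃ R, f R = r := by
      obtain ⟨k, hk⟩ := QuotientGroup.mk'_surjective N (e.symm ((MulAut.conj g).symm r))
      exact ⟨k, by show MulAut.conj g (e (QuotientGroup.mk' N k)) = r; rw [hk]; simp; group⟩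
    have hfpf : ∀ k, f k ≠ 1 → f k * f k * f k = 1 → Fpf k N := fun k h1 h3 =>
      fpf_of_cube hXo hXc N hN3 ⟨fun h => h1 ((hker _).2 h), (hker _).1 (by
        rw [map_pow, pow_three, ← mul_assoc, h3])⟩
    have hmem : ∀ a b, f a = f b → a⁻¹ * b ∈ N := fun a b h => (hker _).1 (by
      rw [map_mul, map_inv, h, inv_mul_cancel])
    set u' := f U with hu'
    set w' := f D with hw'
    have hwu : w' * u' = u' * w' := hcD.symm
    have cu : ∀ q, r * (u' * q) = w' * (r * q) := fun q => by rw [← mul_assoc, hrU, mul_assoc]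
    have cw : ∀ q, r * (w' * q) = u' * (w' * (r * q)) := fun q => by
      rw [← mul_assoc, hrD, mul_assoc, mul_assoc]
    have cwu : ∀ q, w' * (u' * q) = u' * (w' * q) := fun q => by rw [← mul_assoc, hwu, mul_assoc]
    have uu : ∀ q, u' * (u' * q) = q := fun q => by rw [← mul_assoc, hu1, one_mul]
    have ww : ∀ q, w' * (w' * q) = q := fun q => by rw [← mul_assoc, hDD, one_mul]
    have hr3' : r * (r * r) = 1 := by rw [← mul_assoc]; exact hr3
    have hV : ∀ v, (v = u' ∨ v = w' ∨ v = u' * w') → r * v * (r * v) * (r * v) = 1 ∧ r * v ≠ 1 := by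
      intro v hv
      refine ⟨?_, fun h => ?_⟩
      · rcases hv with rfl | rfl | rfl <;>
          simp only [mul_assoc, cu, cw, cwu, uu, ww, hrU, hrD, hr3', hDD, hu1, mul_one]
      · have hvv : v * v = 1 := by
          rcases hv with rfl | rfl | rfl
          · exact hu1
          · exact hDD
          · simp only [mul_assoc, cwu, uu, hDD]
        have hrv : r = v := by
          rw [eq_inv_of_mul_eq_one_left h, inv_eq_of_mul_eq_one_right hvv]
        rw [hrv] at hr3
        rw [hvv, one_mul] at hr3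
        rw [hr3] at hrv
        exact hr1 hrv
    have hsum := fun (m : S.Ct ⧸ S.Nt) (hm : m ∈ N) => norm_four hNc hN2 (n := m) (U := U) (W := D) (R := R)
      (by rw [hUU]; exact N.one_mem) ((hker _).1 (by rw [map_mul]; exact hDD))
      (hmem _ _ (by rw [map_mul, map_mul, hR]; exact hrU))
      (hmem _ _ (by rw [map_mul, map_mul, map_mul, hR]; exact hrD))
      (hmem _ _ (by rw [map_mul, map_mul]; exact hcD))
      (hfpf R (by rw [hR]; exact hr1) (by rw [hR]; exact hr3))
      (hfpf _ (by rw [map_mul, hR]; exact (hV _ (Or.inl rfl)).2)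
        (by rw [map_mul, hR]; exact (hV _ (Or.inl rfl)).1))
      (hfpf _ (by rw [map_mul, hR]; exact (hV _ (Or.inr (Or.inl rfl))).2)
        (by rw [map_mul, hR]; exact (hV _ (Or.inr (Or.inl rfl))).1))
      (hfpf _ (by rw [map_mul, map_mul, hR]; exact (hV _ (Or.inr (Or.inr rfl))).2)
        (by rw [map_mul, map_mul, hR]; exact (hV _ (Or.inr (Or.inr rfl))).1)) hm
    have hnI := hF.conj _ hIN
    -- `i` is the product of a conjugate and its conjugate under `u`
    set n := X * I * X⁻¹ with hn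
    have hsq : ∀ m ∈ N, m * m = 1 := fun m hm => by rw [← pow_two]; exact hN2 m hm
    have hIn : n * (U * n * U⁻¹) = I := by
      have h1 : n * U * n * U = I := by
        rw [hn, hX, hI, hU, ← map_inv, ← map_mul, ← map_mul, ← map_mul, ← map_mul, ← map_mul, red_eq]
        show S.InT ((S.wp wx * S.wp wi * (S.wp wx)⁻¹ * S.wp wu * (S.wp wx * S.wp wi * (S.wp wx)⁻¹) *
          S.wp wu)⁻¹ * S.wp wi)
        rw [← x_inv, ← wp_append, ← wp_append, ← wp_append, ← wp_append, ← wp_append]
        have h := dT_facts.2.2.2.2.2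
        simp only [List.mem_cons, List.not_mem_nil, or_false] at h
        rcases h with h | h
        · left; rw [inv_mul_eq_one]; exact S.eqA (by decide) (by decide) h
        · right
          rw [inv_mul_eq_iff_eq_mul]
          have h' : S.wp (wconj wi ++ wu ++ wconj wi ++ wu) = S.wp (wi ++ [0]) := S.eqA (by decide) (by decide) h
          rw [show wx ++ wi ++ wX = wconj wi from rfl, h', wp_append, wp_one, mul_assoc, S.gen_inv, mul_one]
      rw [inv_eq_of_mul_eq_one_right hUU, ← h1]; group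
    have hID : D * I * D⁻¹ = I := by
      have h := hsum _ hnI
      rw [hIn] at h
      have hUm : U * (D * n * D⁻¹) * U⁻¹ = D * (U * n * U⁻¹) * D⁻¹ := by
        calc U * (D * n * D⁻¹) * U⁻¹ = (U * D) * n * (U * D)⁻¹ := by group
          _ = (D * U) * n * (D * U)⁻¹ := by rw [hUD]
          _ = _ := by group
      rw [hUm, mul_assoc I] at h
      rw [show D * n * D⁻¹ * (D * (U * n * U⁻¹) * D⁻¹) = D * (n * (U * n * U⁻¹)) * D⁻¹ by group, hIn] at h
      exact mul_left_cancel (h.trans (hsq I hIN).symm)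
    refine Or.inr (Or.inl ⟨?_, ?_⟩)
    · -- `d²` is trivial
      have hd2' : D * D = 1 := by
        have h := congrArg (fun k => k * I) hID
        have e1 : I * D * I⁻¹ = D⁻¹ := by
          rw [hI, hD, ← map_inv, ← map_inv, ← map_mul, ← map_mul, red_eq]
          left; rw [inv_mul_eq_one]
          show S.wp wi * S.wp wd * (S.wp wi)⁻¹ = (S.wp wd)⁻¹
          exact S.i_d
        have e2 : I * D * I⁻¹ = D := by
          calc I * D * I⁻¹ = (D * I * D⁻¹) * D * I⁻¹ := by rw [hID]
            _ = D := by group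
        rw [e2] at e1
        exact mul_eq_one_iff_eq_inv.2 e1
      rw [hD, ← map_mul, red_eq_one] at hd2'
      exact S.eq_one_of_InT hd2' (S.y_d.mul_right S.y_d)
    · -- `(xd)⁵` and `i` commute modulo `⟨t⟩`
      have hs : (X * D) ^ 5 ∈ N := (hker _).1 (by
        rw [map_pow, map_mul, hfX]
        simpa [pow_succ, mul_assoc] using h5)
      have hc5 : Commute ((X * D) ^ 5) I := congrArg Subtype.val (hNc.is_comm.comm ⟨_, hs⟩ ⟨_, hIN⟩)
      have h := hc5.eq
      rw [← mul_inv_eq_iff_eq_mul, ← mul_inv_eq_one, hX, hD, hI, ← map_mul, ← map_pow, ← map_inv, ← map_mul,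
        ← map_inv, ← map_mul, ← map_mul, red_eq_one] at h
      push_cast at h
      rw [wsi, wp_append, wp_append, wp_append, wp_reverse, wp_reverse]
      have hws : S.wp ws = (S.wp wx * S.wp wd) ^ 5 := by
        simp only [ws, wp_append, pow_succ, pow_zero, one_mul]
      rw [hws]
      exact h
  · set A := S.red ⟨_, haC⟩ with hA
    obtain ⟨h1, h2⟩ := psl7_facts (e U) (e A) (e D) (by rw [← map_mul, hUU, map_one])
      (by
        rw [Ne, MulEquiv.map_eq_one_iff, hU, red_eq_one]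
        rintro (h | h)
        · exact S.tv_cases.2.2.1 h
        · exact S.tv_cases.1 h.symm)
      (by rw [← map_mul, hA, ← map_mul, MulEquiv.map_eq_one_iff, red_eq_one]; exact Or.inl (S.gen_inv 2))
      (by rw [Ne, MulEquiv.map_eq_one_iff, hA, red_eq_one]; exact S.tv_cases.2.2.2.1)
      (by
        rw [← map_mul, ← map_mul, hU, hA, ← map_mul, ← map_mul]
        refine congrArg e ((S.red_eq).2 (Or.inr ?_))
        show (S.wp wu * S.gen 2)⁻¹ * (S.gen 2 * S.wp wu) = S.t
        rw [mul_inv_rev, S.gen_self, inv_eq_of_mul_eq_one_right S.uu]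
        calc S.gen 2 * S.wp wu * (S.gen 2 * S.wp wu) = (S.gen 2 * S.wp wu * S.gen 2) * S.wp wu := by group
          _ = S.t := by
              rw [← S.aT.2]
              calc S.gen 2 * (S.gen 2 * S.gen 1 * S.gen 2) * S.gen 2 * (S.gen 2 * S.gen 1 * S.gen 2)
                  = S.gen 2 * S.gen 2 * S.gen 1 * (S.gen 2 * S.gen 2) * (S.gen 2 * S.gen 1 * S.gen 2) := by group
                _ = S.gen 1 * (S.gen 2 * S.gen 1 * S.gen 2) := by rw [S.gen_inv]; group
                _ = S.t := by rw [S.aT.2, S.u_eq, ← mul_assoc, ← S.tv.eq, mul_assoc, S.gen_inv, mul_one])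
      (by
        intro h
        have := e.injective h
        rw [hA, hU, red_eq] at this
        rcases this with h | h
        · rw [inv_mul_eq_one] at h; exact S.tv_cases.2.2.2.2.1 h
        · apply S.tv_cases.2.2.2.2.2
          have h' : S.wp wu = S.gen 2 * S.t := inv_mul_eq_iff_eq_mul.1 h
          rw [show S.gen 2 = S.wp wu * S.t by rw [h', mul_assoc, S.tt, mul_one], S.u_eq, S.tv.eq,
            mul_assoc, S.tt, mul_one])
      (by have := congrArg e hUD; rwa [map_mul, map_mul] at this)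
    have hfix : ∀ k : G, Commute (S.wp [2, 3]) k → k ≠ S.t ∧ k ≠ S.gen 1 ∧ k ≠ S.wp wu := by
      intro k hk
      obtain ⟨g1, g2, g3⟩ := S.y_conj
      refine ⟨fun h => ?_, fun h => ?_, fun h => ?_⟩ <;> rw [h] at hk
      · rw [hk.eq, mul_inv_cancel_right] at g1; exact S.t_ne_v g1
      · rw [hk.eq, mul_inv_cancel_right] at g2; exact S.tv_cases.2.1 g2
      · rw [hk.eq, mul_inv_cancel_right] at g3; exact S.tv_cases.1 g3.symm
    have utv : S.t * S.wp wu = S.gen 1 := by rw [S.u_eq, ← mul_assoc, S.tt, one_mul]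
    rcases h1 with h1 | h1
    · rw [← map_mul, MulEquiv.map_eq_one_iff] at h1
      have hAD : A * D = D * A := by
        have e1 : A * D * A = D⁻¹ := by
          rw [eq_inv_iff_mul_eq_one, hA, hD, ← map_mul, ← map_mul, ← map_mul, red_eq_one]
          left
          show S.gen 2 * S.wp wd * S.gen 2 * S.wp wd = 1
          rw [S.a_d, inv_mul_cancel]
        rw [inv_eq_of_mul_eq_one_right h1] at e1
        calc A * D = A * D * (A * A) := by
              rw [show A * A = 1 by rw [hA, ← map_mul, red_eq_one]; exact Or.inl (S.gen_inv 2), mul_one]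
          _ = A * D * A * A := by group
          _ = D * A := by rw [e1]
      have key : ∀ k : S.Ct, e D = e (S.red k) → S.wp wd = k ∨ S.wp wd = (k : G) * S.t := fun k h => by
        have := e.injective h
        rw [hD, eq_comm, red_eq] at this
        rcases this with h | h
        · exact Or.inl (inv_mul_eq_one.1 h).symm
        · exact Or.inr (inv_mul_eq_iff_eq_mul.1 h)
      obtain ⟨n1, n2, n3⟩ := hfix _ S.y_d
      have hnota : ∀ k : G, Commute k (S.gen 1) → S.gen 2 * k ≠ S.wp wd := fun k hk h => by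
        have h2 := hdv
        rw [← h] at h2
        have ha : Commute (S.gen 2) (S.gen 1) := by
          have := h2.mul_left hk.inv_left
          rwa [mul_inv_cancel_right] at this
        have h3 := S.aT.2
        rw [ha.eq, mul_assoc, S.gen_inv, mul_one] at h3
        exact S.tv_cases.2.1 h3
      have hvu : Commute (S.gen 1) (S.wp wu) := by rw [S.u_eq]; exact S.tv.symm.mul_right (Commute.refl _)
      rcases h2 (by have := congrArg e hAD; rwa [map_mul, map_mul] at this) with h | h | h | h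
      · rcases key 1 (h.trans (by rw [map_one, map_one])) with h | h
        · exact Or.inr (Or.inr h)
        · exact absurd (h.trans (one_mul _)) n1
      · rcases key _ h with h | h
        · exact absurd h n3
        · exfalso
          rw [show ((⟨_, huC⟩ : S.Ct) : G) * S.t = S.gen 1 by
            show S.wp wu * S.t = _
            rw [← S.tu.eq, utv]] at h
          exact n2 h
      · rcases key _ h with h | h
        · exact absurd (show S.gen 2 * 1 = S.wp wd by rw [mul_one]; exact h.symm) (hnota 1 (Commute.one_left _))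
        · exact absurd h.symm (hnota _ S.tv)
      · rw [hA, hU, ← map_mul e, ← map_mul] at h
        rcases key _ h with h | h
        · exact absurd h.symm (hnota _ hvu.symm)
        · refine absurd (show S.gen 2 * (S.wp wu * S.t) = S.wp wd from ?_) (hnota _ (hvu.symm.mul_left S.tv))
          rw [h]; push_cast; group
    · exfalso
      rw [← map_mul] at h1
      have := e.injective h1
      rw [hD, hU, ← map_mul, eq_comm, red_eq] at this
      obtain ⟨n1, n2, n3⟩ := hfix _ (S.y_d.mul_right S.y_d)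
      rcases this with h | h
      · exact n3 (inv_mul_eq_one.1 h).symm
      · refine n2 ?_
        have h' : S.wp wd * S.wp wd = S.wp wu * S.t := inv_mul_eq_iff_eq_mul.1 h
        rw [h', ← S.tu.eq, utv]

end quotient

end Setup

end Cfsg.Agent.GL23Amalgam
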