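import Cfsg.Agent.Lib.Compute.CosetOrbit
import Cfsg.Agent.Lib.GL23Amalgam.Local

/-!
Reading a coset certificate in the group of the amalgam.
-/

set_option autoImplicit false
set_option maxRecDepth 10000
set_option linter.style.haveILetI false

namespace Cfsg.Agent.GL23Amalgam

open CosetCert

/-- A word for an element of the Borel subgroup of the first side. -/
def borelWord (m : Aff) : List ℕ :=
  (List.replicate m.p.val wz).flatten ++ (List.replicate m.q.val we).flatten ++
    (if m.a = 2 then (if m.d = 2 then [0] else [1]) else (if m.d = 2 then wu else [])) ++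
    (List.replicate (m.a * m.b).val wx).flatten

theorem borelWord_spec : ∀ m : Aff, m.IsBorel → m.OK →
    ev genA (borelWord m) = m ∧ lettersIn lettersA (borelWord m) = true :=
  Aff.forall_of_all (by decide +kernel)

theorem borel_factor : ∀ m : Aff, m.OK → m.c ≠ 0 →
    (⟨1, m.a * m.c, 0, 1, m.p, m.q⟩ : Aff).OK ∧
    ∃ a b d : ZMod 3, a ≠ 0 ∧ d ≠ 0 ∧ (⟨a, b, 0, d, 0, 0⟩ : Aff).OK ∧
      m = ⟨1, m.a * m.c, 0, 1, m.p, m.q⟩ * genA 2 * ⟨a, b, 0, d, 0, 0⟩ :=
  Aff.forall_of_all (by decide +kernel)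

/-- Free reduction does not change the value of a word. -/
theorem wprod_reduce {G : Type*} [Group G] {gen : ℕ → G} (hinv : ∀ x, gen x * gen x = 1) (w : List ℕ) :
    wprod gen (reduce w) = wprod gen w := by
  have hs : ∀ x (q : G), (fun x (q : G) => gen x • q) x ((fun x (q : G) => gen x • q) x q) = q := fun x q => by
    show gen x • gen x • q = q
    rw [smul_smul, hinv, one_smul]
  have h := act_reduce hs w (1 : G)
  rw [act_eq_wprod, act_eq_wprod, smul_eq_mul, mul_one, smul_eq_mul, mul_one, wprod_reverse hinv,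
    wprod_reverse hinv] at h
  exact inv_injective h

/-- A relator is an identity of one side or a reduced rotation of one of the given words. -/
def relOK (ex : List (List ℕ)) (w : List ℕ) : Bool :=
  (lettersIn lettersA w && decide (ev genA w = 1)) || (lettersIn lettersB w && decide (ev genB w = 1)) ||
    ex.any fun L => (List.range L.length).any fun i =>
      wordEq (reduce (rotWord L i false)) w || wordEq (reduce (rotWord L i true)) w

/-- A subgroup word is a reduced form of one of the given words or of its reverse. -/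
def subOK (K : List (List ℕ)) (w : List ℕ) : Bool :=
  K.any fun L => wordEq (reduce L) w || wordEq (reduce L).reverse w

/-- A certificate in permuted letters. -/
structure Cert where
  perm : List ℕ
  P : Params
  n : ℕ
  base : List (List ℕ)
  hints : List (ℕ × ℕ × Bool)
  tree : List ℕ
  phases : List Phase

/-- The letters of the certificate in the standard numbering. -/
def Cert.pm (C : Cert) (w : List ℕ) : List ℕ := w.map fun i => C.perm.getD i 6

/-- What has to be checked of a certificate. -/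
structure Cert.OK (C : Cert) (ex K : List (List ℕ)) : Prop where
  cert : checkCert C.P C.n C.tree C.phases = true
  rots : rotsOK C.base C.P.rots.entries C.hints = true
  tab : tableOK C.P C.n = true
  perm_cover : (List.range 6).all (fun j => (List.range C.P.k).any fun i => Nat.beq (C.perm.getD i 6) j) = true
  rels : C.base.all (fun w => relOK ex (C.pm w)) = true
  subs : C.P.subs.all (fun w => subOK K (C.pm w)) = true

namespace Setup

variable {G : Type*} [Group G] (S : Setup G)

theorem closure_A : S.A ≤ Subgroup.closure (S.gen '' {x | x < 6}) := by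
  have hw : ∀ w, lettersIn lettersA w = true → S.wp w ∈ Subgroup.closure (S.gen '' {x | x < 6}) := by
    intro w
    induction w with
    | nil => intro _; simp [wp, wprod]
    | cons x w ih =>
      intro h
      simp only [lettersIn, List.all_cons, Bool.and_eq_true, List.contains_eq_mem, decide_eq_true_eq] at h
      have hx : x < 6 := by
        have := h.1
        simp only [lettersA, List.mem_cons, List.not_mem_nil, or_false] at this
        omega
      rw [show x :: w = [x] ++ w from rfl, wp_append, wp_one]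
      exact mul_mem (Subgroup.subset_closure ⟨x, hx, rfl⟩) (ih (by simpa [lettersIn] using h.2))
  intro g hg
  have hval : ∀ w, lettersIn lettersA w = true → S.φA ⟨g, hg⟩ = ev genA w → g = S.wp w := fun w hl e => by
    obtain ⟨m, e'⟩ := S.wprod_A w hl
    exact congrArg Subtype.val (S.injA (e.trans e'.symm))
  by_cases hc : (S.φA ⟨g, hg⟩).IsBorel
  · obtain ⟨e, hl⟩ := borelWord_spec _ hc (S.okA _)
    rw [hval _ hl e.symm]; exact hw _ hl
  · obtain ⟨ok1, a, b, d, -, -, ok2, e⟩ := borel_factor _ (S.okA _) hc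
    obtain ⟨e1, l1⟩ := borelWord_spec ⟨1, (S.φA ⟨g, hg⟩).a * (S.φA ⟨g, hg⟩).c, 0, 1, (S.φA ⟨g, hg⟩).p,
      (S.φA ⟨g, hg⟩).q⟩ rfl ok1
    obtain ⟨e2, l2⟩ := borelWord_spec ⟨a, b, 0, d, 0, 0⟩ rfl ok2
    set w1 := borelWord ⟨1, (S.φA ⟨g, hg⟩).a * (S.φA ⟨g, hg⟩).c, 0, 1, (S.φA ⟨g, hg⟩).p, (S.φA ⟨g, hg⟩).q⟩
    set w2 := borelWord ⟨a, b, 0, d, 0, 0⟩
    have hl : lettersIn lettersA (w1 ++ [2] ++ w2) = true := by
      simp only [lettersIn, List.all_append, Bool.and_eq_true] at l1 l2 ⊢
      exact ⟨⟨l1, by decide⟩, l2⟩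
    rw [hval _ hl (e.trans (by rw [← e1, ← e2]; simp [ev, mul_assoc]))]
    exact hw _ hl

theorem borelB_closure (g : G) (hg : g ∈ S.B) (hb : (S.φB ⟨g, hg⟩).IsBorel) :
    g ∈ Subgroup.closure (S.gen '' {x | x < 6}) := S.closure_A ((S.borelB ⟨g, hg⟩).2 hb)

theorem bruhatB : ∀ m : Aff, m.OK → m.c ≠ 0 → ∃ i j : ZMod 3, ∃ a b d : ZMod 3, a ≠ 0 ∧ d ≠ 0 ∧
    m = ⟨1, i, 0, 1, m.p, m.q⟩ * genB 3 * ⟨a, b, 0, d, j * 0, 0⟩ :=
  Aff.forall_of_all (by decide +kernel)

theorem closure_eq_top : Subgroup.closure (S.gen '' {x | x < 6}) = ⊤ := by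
  refine top_le_iff.1 (S.sup_eq ▸ sup_le S.closure_A ?_)
  intro g hg
  by_cases hc : (S.φB ⟨g, hg⟩).IsBorel
  · exact S.borelB_closure g hg hc
  · obtain ⟨i, j, a, b, d, ha, hd, e⟩ := bruhatB _ (S.okB _) hc
    set m1 : Aff := ⟨1, i, 0, 1, (S.φB ⟨g, hg⟩).p, (S.φB ⟨g, hg⟩).q⟩
    set m2 : Aff := ⟨a, b, 0, d, j * 0, 0⟩
    obtain ⟨g1, h1⟩ := S.surjB m1 (by simp [m1, Aff.OK, Aff.det])
    obtain ⟨g2, h2⟩ := S.surjB m2 (by simp [m2, Aff.OK, Aff.det, ha, hd])
    obtain ⟨hb, eb⟩ := S.genB_spec 3 (by decide)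
    have : (⟨g, hg⟩ : S.B) = g1 * ⟨S.gen 3, hb⟩ * g2 := S.injB (by rw [map_mul, map_mul, h1, h2, eb]; exact e)
    rw [show g = (g1 : G) * S.gen 3 * g2 from congrArg Subtype.val this]
    exact mul_mem (mul_mem (S.borelB_closure _ g1.2 (by rw [Subtype.coe_eta, h1]; rfl))
      (Subgroup.subset_closure ⟨3, by decide, rfl⟩)) (S.borelB_closure _ g2.2 (by rw [Subtype.coe_eta, h2]; rfl))

/-- The letters of a certificate. -/
def cgen (C : Cert) (i : ℕ) : G := S.gen (C.perm.getD i 6)

theorem wprod_cgen (C : Cert) (w : List ℕ) : wprod (S.cgen C) w = S.wp (C.pm w) := by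
  rw [wp, wprod, wprod, Cert.pm, List.map_map]; rfl

/-- A certificate bounds an index. -/
theorem cert_bound {C : Cert} {ex K : List (List ℕ)} (h : C.OK ex K) (hex : ∀ L ∈ ex, S.wp L = 1)
    {H : Subgroup G} (hK : ∀ L ∈ K, S.wp L ∈ H) :
    Finite (G ⧸ H) ∧ H.index ≤ C.n ∧
      ∀ w : List ℕ, (w.all fun x => Nat.blt x C.P.k) = true → tact C.P w 0 = 0 → S.wp (C.pm w) ∈ H := by
  have hgen : Subgroup.closure (S.cgen C '' {x | x < C.P.k}) = ⊤ := by
    refine top_le_iff.1 (S.closure_eq_top ▸ (Subgroup.closure_le _).2 ?_)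
    rintro _ ⟨j, hj, rfl⟩
    have := h.perm_cover
    simp only [List.all_eq_true, List.mem_range, List.any_eq_true, Nat.beq_eq] at this
    obtain ⟨i, hi, e⟩ := this j hj
    exact Subgroup.subset_closure ⟨i, hi, by rw [cgen, e]⟩
  have hbase : ∀ w ∈ C.base, wprod (S.cgen C) w = 1 := by
    intro w hw
    rw [wprod_cgen]
    have hr := List.all_eq_true.1 h.rels w hw
    simp only [relOK, Bool.or_eq_true, Bool.and_eq_true, decide_eq_true_eq, List.any_eq_true] at hr
    rcases hr with (⟨hl, he⟩ | ⟨hl, he⟩) | ⟨L, hL, i, -, he⟩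
    · rw [← S.wp_nil]; exact S.eqA hl rfl (he.trans (ev_nil _).symm)
    · rw [← S.wp_nil]; exact S.eqB hl rfl (he.trans (ev_nil _).symm)
    · rcases he with he | he <;>
      · rw [← eq_of_wordEq he, wp, wprod_reduce S.gen_inv]
        exact wprod_rotWord S.gen_inv (hex L hL) _ _
  have hsubs : ∀ w ∈ C.P.subs, wprod (S.cgen C) w ∈ H := by
    intro w hw
    rw [wprod_cgen]
    have hr := List.all_eq_true.1 h.subs w hw
    simp only [subOK, List.any_eq_true, Bool.or_eq_true] at hr
    obtain ⟨L, hL, he | he⟩ := hr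
    · rw [← eq_of_wordEq he, wp, wprod_reduce S.gen_inv]; exact hK L hL
    · rw [← eq_of_wordEq he, wp_reverse, wp, wprod_reduce S.gen_inv]; exact inv_mem (hK L hL)
  obtain ⟨h1, h2, h3⟩ := index_bound (gen := S.cgen C) (fun x => S.gen_inv _) hgen hbase h.rots hsubs h.cert
    h.tab (tableOK_pos _ h.tab).2
  exact ⟨h1, h2, fun w hw h0 => by rw [← wprod_cgen]; exact h3 w hw h0⟩

/-- A certificate with one coset shows that the subgroup is everything. -/
theorem cert_top {C : Cert} {ex K : List (List ℕ)} (h : C.OK ex K) (hn : C.n = 1) (hex : ∀ L ∈ ex, S.wp L = 1)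
    {H : Subgroup G} (hK : ∀ L ∈ K, S.wp L ∈ H) : H = ⊤ := by
  obtain ⟨hfin, hle, -⟩ := S.cert_bound h hex hK
  rw [hn] at hle
  haveI : H.FiniteIndex := Subgroup.finiteIndex_of_finite_quotient
  exact Subgroup.index_eq_one.1 (le_antisymm hle (Nat.one_le_iff_ne_zero.2 Subgroup.FiniteIndex.index_ne_zero))

end Setup

end Cfsg.Agent.GL23Amalgam
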