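import Cfsg.Agent.Lib.GL23Amalgam.CertUse
import Cfsg.Agent.Lib.GL23Amalgam.Data.L13
import Cfsg.Agent.Lib.GL23Amalgam.Data.M220
import Cfsg.Agent.Lib.GL23Amalgam.Data.DU1
import Cfsg.Agent.Lib.GL23Amalgam.Data.DU2
import Cfsg.Agent.Lib.GL23Amalgam.Data.A5a
import Cfsg.Agent.Lib.GL23Amalgam.Data.A5b
import Cfsg.Agent.Lib.GL23Amalgam.Data.GenL
import Cfsg.Agent.Lib.GL23Amalgam.Data.GenM
import Cfsg.Agent.Lib.GL23Amalgam.Data.GenU

/-!
The coset certificates of the amalgam, in standard letters.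
-/

set_option autoImplicit false
set_option maxRecDepth 100000

namespace Cfsg.Agent.GL23Amalgam

open CosetCert

/-- Certificate `L13`. -/
def l13 : Cert :=
  ⟨[5, 2, 0, 1, 3, 4], Data.L13.P, 13, Data.L13.base, Data.L13.hints, Data.L13.tree, Data.L13.phases⟩

theorem l13_ok : l13.OK [(wd ++ wd), wfp wd] [[0], [1], [2], [4], [5]] :=
  ⟨Data.L13.cert_ok, Data.L13.rots_ok, Data.L13.tab_ok, by decide +kernel, by decide +kernel, by decide +kernel⟩

/-- Certificate `M220`. -/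
def m220 : Cert :=
  ⟨[1, 5, 0, 4, 3, 2], Data.M220.P, 220, Data.M220.base, Data.M220.hints, Data.M220.tree, Data.M220.phases⟩

theorem m220_ok : m220.OK [(wd ++ wd), wfp wd ++ [0]] [[0], [1], [2], [4], [5]] :=
  ⟨Data.M220.cert_ok, Data.M220.rots_ok, Data.M220.tab_ok, by decide +kernel, by decide +kernel, by decide +kernel⟩

/-- Certificate `DU1`. -/
def dU1 : Cert :=
  ⟨[4, 0, 1, 5, 3, 2], Data.DU1.P, 1, Data.DU1.base, Data.DU1.hints, Data.DU1.tree, Data.DU1.phases⟩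

theorem dU1_ok : dU1.OK [(wd ++ wd), wfp (wd ++ wu)] [[0], [1], [2], [4], [5]] :=
  ⟨Data.DU1.cert_ok, Data.DU1.rots_ok, Data.DU1.tab_ok, by decide +kernel, by decide +kernel, by decide +kernel⟩

/-- Certificate `DU2`. -/
def dU2 : Cert :=
  ⟨[4, 0, 1, 5, 2, 3], Data.DU2.P, 1, Data.DU2.base, Data.DU2.hints, Data.DU2.tree, Data.DU2.phases⟩

theorem dU2_ok : dU2.OK [(wd ++ wd), wfp (wd ++ wu) ++ [0]] [[0], [1], [2], [4], [5]] :=
  ⟨Data.DU2.cert_ok, Data.DU2.rots_ok, Data.DU2.tab_ok, by decide +kernel, by decide +kernel, by decide +kernel⟩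

/-- Certificate `A5a`. -/
def a5a : Cert :=
  ⟨[5, 0, 3, 4, 2, 1], Data.A5a.P, 1, Data.A5a.base, Data.A5a.hints, Data.A5a.tree, Data.A5a.phases⟩

theorem a5a_ok : a5a.OK [(wd ++ wd), wsi] [[0], [1], [2], [4], [5]] :=
  ⟨Data.A5a.cert_ok, Data.A5a.rots_ok, Data.A5a.tab_ok, by decide +kernel, by decide +kernel, by decide +kernel⟩

/-- Certificate `A5b`. -/
def a5b : Cert :=
  ⟨[4, 1, 5, 0, 3, 2], Data.A5b.P, 1, Data.A5b.base, Data.A5b.hints, Data.A5b.tree, Data.A5b.phases⟩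

theorem a5b_ok : a5b.OK [(wd ++ wd), wsi ++ [0]] [[0], [1], [2], [4], [5]] :=
  ⟨Data.A5b.cert_ok, Data.A5b.rots_ok, Data.A5b.tab_ok, by decide +kernel, by decide +kernel, by decide +kernel⟩

/-- Certificate `GenL`. -/
def genL : Cert :=
  ⟨[0, 1, 2, 3, 4, 5], Data.GenL.P, 1, Data.GenL.base, Data.GenL.hints, Data.GenL.tree, Data.GenL.phases⟩

theorem genL_ok : genL.OK [wfp wd] [[0], [1], [2], [3], wconj wd, wconj wi] :=
  ⟨Data.GenL.cert_ok, Data.GenL.rots_ok, Data.GenL.tab_ok, by decide +kernel, by decide +kernel, by decide +kernel⟩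

/-- Certificate `GenM`. -/
def genM : Cert :=
  ⟨[0, 1, 2, 3, 4, 5], Data.GenM.P, 1, Data.GenM.base, Data.GenM.hints, Data.GenM.tree, Data.GenM.phases⟩

theorem genM_ok : genM.OK [wfp wd ++ [0]] [[0], [1], [2], [3], wconj wd, wconj wi] :=
  ⟨Data.GenM.cert_ok, Data.GenM.rots_ok, Data.GenM.tab_ok, by decide +kernel, by decide +kernel, by decide +kernel⟩

/-- Certificate `GenU`. -/
def genU : Cert :=
  ⟨[3, 5, 2, 0, 4, 1], Data.GenU.P, 1, Data.GenU.base, Data.GenU.hints, Data.GenU.tree, Data.GenU.phases⟩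

theorem genU_ok : genU.OK [] [[0], [1], [2], [3], wconj (wd ++ wu), wconj wi] :=
  ⟨Data.GenU.cert_ok, Data.GenU.rots_ok, Data.GenU.tab_ok, by decide +kernel, by decide +kernel, by decide +kernel⟩

end Cfsg.Agent.GL23Amalgam
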