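import Cfsg.Agent.Lib.GL23Amalgam.CertUse

/-!
A primitive coset table gives the exact index, and words fixing every point are trivial.
-/

set_option autoImplicit false
set_option maxRecDepth 10000
set_option linter.style.haveILetI false

namespace Cfsg.Agent.GL23Amalgam

open CosetCert

/-- The bit set of a list. -/
def bitsOf (l : List ℕ) : ℕ := l.foldl insBit 0

theorem bit_foldl (l : List ℕ) : ∀ (m t : ℕ), bit (l.foldl insBit m) t = true ↔ bit m t = true ∨ t ∈ l := by
  induction l with
  | nil => simp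
  | cons a l ih =>
    intro m t
    rw [List.foldl_cons, ih]
    constructor
    · rintro (h | h)
      · rcases bit_insBit h with rfl | h
        · exact Or.inr List.mem_cons_self
        · exact Or.inl h
      · exact Or.inr (List.mem_cons_of_mem _ h)
    · rintro (h | h)
      · exact Or.inl (bit_insBit_of h)
      · rcases List.mem_cons.1 h with rfl | h
        · exact Or.inl (bit_insBit_self _ _)
        · exact Or.inr h

/-- The growth list reaches every point but the listed starting ones (which must be distinct). -/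
noncomputable def reachOK (P : Params) (n : ℕ) (sw : List (List ℕ)) (starts : List ℕ) (l : List (ℕ × ℕ)) (skip : ℕ) : Bool :=
  decide starts.Nodup &&
    match grow P sw l starts (bitsOf starts) with
    | some (_, m) => allBelow (fun c => Nat.beq c skip || bit m c) n
    | none => false

theorem reach_spec {P : Params} {n : ℕ} {sw : List (List ℕ)} {starts : List ℕ} {l : List (ℕ × ℕ)} {skip : ℕ}
    (h : reachOK P n sw starts l skip = true) {R : ℕ → Prop} (hs : ∀ t ∈ starts, R t)
    (hR : ∀ t, R t → ∀ w ∈ sw, R (tact P w t)) : ∀ c < n, c ≠ skip → R c := by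
  simp only [reachOK, Bool.and_eq_true, decide_eq_true_eq] at h
  obtain ⟨hnd, h⟩ := h
  cases hg : grow P sw l starts (bitsOf starts) with
  | none => simp [hg] at h
  | some om =>
    obtain ⟨o, m⟩ := om
    simp only [hg] at h
    obtain ⟨k1, k2, -, -⟩ := grow_spec hR l starts _ o m
      (fun t => by rw [bitsOf, bit_foldl, bit_zero]; simp) hs hnd hg
    intro c hc hne
    have := allBelow_spec h hc
    simp only [Bool.or_eq_true, Nat.beq_eq] at this
    exact k2 c ((k1 c).1 (this.resolve_left hne))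

/-- What has to be checked for a primitive table. -/
structure Cert.Prim (C : Cert) (reps : List ℕ) (cover root : List (ℕ × ℕ))
    (prim : List (ℕ × List ℕ × List (ℕ × ℕ))) : Prop where
  six : C.P.k = 6
  letters : (C.perm.all fun i => Nat.blt i 6) = true
  subsA : C.P.subs.all (fun w => lettersIn lettersA (C.pm w) && w.all fun x => Nat.blt x 6) = true
  cover_ok : reachOK C.P C.n C.P.subs reps cover 0 = true
  root_ok : reachOK C.P C.n ((List.range 6).map fun x => [x]) [0] root C.n = true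
  prim_ok : (reps.all fun r => prim.any fun e => Nat.beq e.1 r) = true
  paths_ok : (prim.all fun e => Nat.blt e.1 C.n && Nat.beq (tact C.P e.2.1 0) e.1 &&
    (e.2.1.all fun x => Nat.blt x 6) && reachOK C.P C.n (C.P.subs ++ [e.2.1]) [0] e.2.2 C.n) = true

namespace Setup

variable {G : Type*} [Group G] (S : Setup G)

theorem pm_append (C : Cert) (u v : List ℕ) : C.pm (u ++ v) = C.pm u ++ C.pm v := List.map_append

theorem gen3_not_mem : S.gen 3 ∉ S.A := fun h => by
  obtain ⟨hb, eb⟩ := S.genB_spec 3 (by decide)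
  have := (S.borelB ⟨_, hb⟩).1 h
  rw [eb] at this
  revert this
  decide +kernel

theorem A_ne_top : S.A ≠ ⊤ := fun h => S.gen3_not_mem (h ▸ Subgroup.mem_top _)

variable {C : Cert} {ex K : List (List ℕ)} {reps : List ℕ} {cover root : List (ℕ × ℕ)}
  {prim : List (ℕ × List ℕ × List (ℕ × ℕ))}

theorem tact_lt (h : C.OK ex K) : ∀ (w : List ℕ), (∀ x ∈ w, x < C.P.k) → ∀ c < C.n,
    tact C.P w c < C.n ∧ tact C.P w.reverse (tact C.P w c) = c := by
  intro w
  induction w with
  | nil => intro _ c hc; exact ⟨hc, rfl⟩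
  | cons x w ih =>
    intro hw c hc
    have hx := hw x List.mem_cons_self
    have hi : c * C.P.k + x < C.n * C.P.k := by
      have : (c + 1) * C.P.k ≤ C.n * C.P.k := Nat.mul_le_mul_right _ hc
      rw [Nat.add_mul, Nat.one_mul] at this
      omega
    have hs := tableOK_spec C.P h.tab hi
    simp only [Bool.and_eq_true, Nat.blt_eq, Nat.beq_eq] at hs
    rw [Nat.mul_comm c, Nat.mul_add_mod, Nat.mod_eq_of_lt hx, Nat.mul_add_div (by omega), Nat.div_eq_of_lt hx,
      Nat.add_zero, Nat.mul_comm C.P.k c] at hs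
    obtain ⟨i1, i2⟩ := ih (fun y hy => hw y (List.mem_cons_of_mem _ hy)) _ hs.1
    refine ⟨by rw [tact_cons]; exact i1, ?_⟩
    rw [List.reverse_cons, tact_append, tact_cons C.P x w, i2, tact_cons, tact_nil]
    exact hs.2

/-- The table is the action on the cosets of the first side. -/
theorem prim_spec (h : C.OK ex K) (hp : C.Prim reps cover root prim) (hex : ∀ L ∈ ex, S.wp L = 1)
    (hK : ∀ L ∈ K, S.wp L ∈ S.A) :
    Finite G ∧ S.A.index = C.n ∧
      (∀ w : List ℕ, (∀ x ∈ w, x < 6) → (S.wp (C.pm w) ∈ S.A ↔ tact C.P w 0 = 0)) ∧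
      ∀ g : G, ∃ w : List ℕ, (∀ x ∈ w, x < 6) ∧ g * (S.wp (C.pm w))⁻¹ ∈ S.A := by
  obtain ⟨hfin, hle, hfix⟩ := S.cert_bound h hex hK
  have hk := hp.six
  have hall : ∀ w : List ℕ, (∀ x ∈ w, x < 6) → (w.all fun x => Nat.blt x C.P.k) = true := fun w hw => by
    simp only [List.all_eq_true, Nat.blt_eq, hk]; exact hw
  have hn : 0 < C.n := (tableOK_pos _ h.tab).2
  have same : ∀ u v : List ℕ, (∀ x ∈ u, x < 6) → (∀ x ∈ v, x < 6) → tact C.P u 0 = tact C.P v 0 →
      S.wp (C.pm u) * (S.wp (C.pm v))⁻¹ ∈ S.A := by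
    intro u v hu hv e
    have hr : ∀ x ∈ v.reverse, x < 6 := fun x hx => hv x (List.mem_reverse.1 hx)
    have h0 : tact C.P (u ++ v.reverse) 0 = 0 := by
      rw [tact_append, e]
      exact (tact_lt h v (fun x hx => hk ▸ hv x hx) 0 hn).2
    have := hfix (u ++ v.reverse) (hall _ (fun x hx => (List.mem_append.1 hx).elim (hu x) (hr x))) h0
    rwa [pm_append, wp_append, show C.pm v.reverse = (C.pm v).reverse from List.map_reverse, wp_reverse] at this
  have hsubs : ∀ w ∈ C.P.subs, S.wp (C.pm w) ∈ S.A ∧ ∀ x ∈ w, x < 6 := fun w hw => by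
    have := List.all_eq_true.1 hp.subsA w hw
    simp only [Bool.and_eq_true, List.all_eq_true, Nat.blt_eq] at this
    exact ⟨(S.wprod_A _ this.1).1, this.2⟩
  have key : ∀ w : List ℕ, (∀ x ∈ w, x < 6) → S.wp (C.pm w) ∈ S.A → tact C.P w 0 = 0 := by
    intro w hw hwA
    by_contra hc
    have hclt := (tact_lt h w (fun x hx => hk ▸ hw x hx) 0 hn).1
    obtain ⟨r, hr, s, hs, hsA, e⟩ := reach_spec hp.cover_ok
      (R := fun t => ∃ r ∈ reps, ∃ s : List ℕ, (∀ x ∈ s, x < 6) ∧ S.wp (C.pm s) ∈ S.A ∧ tact C.P s r = t)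
      (fun t ht => ⟨t, ht, [], by simp, by simp [Cert.pm, wp, wprod], rfl⟩)
      (fun t ht v hv => by
        obtain ⟨r, hr, s, hs, hsA, e⟩ := ht
        obtain ⟨hvA, hv6⟩ := hsubs v hv
        refine ⟨r, hr, s ++ v, fun x hx => (List.mem_append.1 hx).elim (hs x) (hv6 x), ?_, ?_⟩
        · rw [pm_append, wp_append]; exact mul_mem hsA hvA
        · rw [tact_append, e])
      _ hclt hc
    obtain ⟨p, hp', hpr⟩ := List.any_eq_true.1 (List.all_eq_true.1 hp.prim_ok r hr)
    obtain rfl := Nat.eq_of_beq_eq_true hpr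
    have hpath := List.all_eq_true.1 hp.paths_ok p hp'
    simp only [Bool.and_eq_true, Nat.blt_eq, Nat.beq_eq, List.all_eq_true] at hpath
    obtain ⟨⟨⟨hplt, hp0⟩, hp6⟩, hgrow⟩ := hpath
    have hs' : ∀ x ∈ s.reverse, x < 6 := fun x hx => hs x (List.mem_reverse.1 hx)
    have hrA : S.wp (C.pm p.2.1) ∈ S.A := by
      have hu6 : ∀ x ∈ w ++ s.reverse, x < 6 := fun x hx => (List.mem_append.1 hx).elim (hw x) (hs' x)
      have h0 : tact C.P (w ++ s.reverse) 0 = tact C.P p.2.1 0 := by
        rw [tact_append, ← e, (tact_lt h s (fun x hx => hk ▸ hs x hx) _ hplt).2, hp0]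
      have huA : S.wp (C.pm (w ++ s.reverse)) ∈ S.A := by
        rw [pm_append, wp_append, show C.pm s.reverse = (C.pm s).reverse from List.map_reverse, wp_reverse]
        exact mul_mem hwA (inv_mem hsA)
      have h1 := mul_mem (inv_mem (same _ _ hu6 hp6 h0)) huA
      rwa [mul_inv_rev, inv_inv, inv_mul_cancel_right] at h1
    have hallpts : ∀ c < C.n, c ≠ C.n → ∃ v, (∀ x ∈ v, x < 6) ∧ S.wp (C.pm v) ∈ S.A ∧ tact C.P v 0 = c :=
      reach_spec hgrow
        (fun t ht => ⟨[], by simp, by simp [Cert.pm, wp, wprod], by simp at ht; subst ht; rfl⟩)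
        (fun t ht v hv => by
          obtain ⟨u, hu, huA, e⟩ := ht
          have hv' : (∀ x ∈ v, x < 6) ∧ S.wp (C.pm v) ∈ S.A := by
            rcases List.mem_append.1 hv with hv | hv
            · exact ⟨(hsubs v hv).2, (hsubs v hv).1⟩
            · rw [List.mem_singleton] at hv; subst hv; exact ⟨hp6, hrA⟩
          refine ⟨u ++ v, fun x hx => (List.mem_append.1 hx).elim (hu x) (hv'.1 x), ?_, ?_⟩
          · rw [pm_append, wp_append]; exact mul_mem huA hv'.2
          · rw [tact_append, e])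
    refine S.A_ne_top (top_le_iff.1 (S.closure_eq_top ▸ (Subgroup.closure_le _).2 ?_))
    rintro _ ⟨j, hj, rfl⟩
    have := h.perm_cover
    simp only [List.all_eq_true, List.mem_range, List.any_eq_true, Nat.beq_eq] at this
    obtain ⟨i, hi, e'⟩ := this j hj
    have hx6 : ∀ x ∈ [i], x < 6 := by simpa [hk] using hi
    have hlt := (tact_lt h [i] (fun x hx => hk ▸ hx6 x hx) 0 hn).1
    obtain ⟨v, hv, hvA, hve⟩ := hallpts _ hlt (Nat.ne_of_lt hlt)
    have h1 := mul_mem (inv_mem (same v [i] hv hx6 hve)) hvA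
    rw [mul_inv_rev, inv_inv, inv_mul_cancel_right] at h1
    simp only [Cert.pm, List.map_cons, List.map_nil, e', wp_one] at h1
    exact h1
  have hpts : ∀ c < C.n, ∃ v, (∀ x ∈ v, x < 6) ∧ tact C.P v 0 = c := fun c hc =>
    reach_spec (R := fun c => ∃ v : List ℕ, (∀ x ∈ v, x < 6) ∧ tact C.P v 0 = c) hp.root_ok
      (fun t ht => ⟨[], by simp, by simp at ht; subst ht; rfl⟩)
      (fun t ht v hv => by
        obtain ⟨u, hu, e⟩ := ht
        obtain ⟨x, hx, rfl⟩ := List.mem_map.1 hv
        refine ⟨u ++ [x], fun y hy => (List.mem_append.1 hy).elim (hu y) (fun hy => ?_), by rw [tact_append, e]⟩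
        rw [List.mem_singleton] at hy; subst hy; exact List.mem_range.1 hx)
      c hc (Nat.ne_of_lt hc)
  choose v hv6 hv0 using hpts
  let F : Fin C.n → G ⧸ S.A := fun c => (((S.wp (C.pm (v c c.2)))⁻¹ : G) : G ⧸ S.A)
  have hinj : Function.Injective F := by
    intro c c' e
    have hA : S.wp (C.pm (v c c.2)) * (S.wp (C.pm (v c' c'.2)))⁻¹ ∈ S.A := by
      have := QuotientGroup.eq.1 e
      rwa [inv_inv] at this
    set a := v c c.2
    set b := v c' c'.2
    have h6 : ∀ x ∈ a ++ b.reverse, x < 6 := fun x hx =>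
      (List.mem_append.1 hx).elim (hv6 c c.2 x) (fun hx => hv6 c' c'.2 x (List.mem_reverse.1 hx))
    have h0 := key (a ++ b.reverse) h6 (by
      rwa [pm_append, wp_append, show C.pm b.reverse = (C.pm b).reverse from List.map_reverse, wp_reverse])
    rw [tact_append, hv0] at h0
    have h1 := (tact_lt h b.reverse (fun x hx => hk ▸ hv6 c' c'.2 x (List.mem_reverse.1 hx)) c c.2).2
    rw [List.reverse_reverse, h0, hv0] at h1
    exact Fin.ext h1.symm
  haveI := hfin
  haveI : Finite S.A := S.finite_A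
  have hG : Finite G := Finite.of_equiv _ (Subgroup.groupEquivQuotientProdSubgroup (s := S.A)).symm
  have hbij : Function.Bijective F := Function.Injective.bijective_of_nat_card_le hinj (by
    rw [Nat.card_fin]; exact hle)
  refine ⟨hG, ?_, fun w hw => ⟨key w hw, fun e => hfix w (hall _ hw) e⟩, fun g => ?_⟩
  · rw [Subgroup.index, ← Nat.card_eq_of_bijective F hbij, Nat.card_fin]
  · obtain ⟨c, hc⟩ := hbij.2 ((g⁻¹ : G) : G ⧸ S.A)
    refine ⟨v c c.2, hv6 c c.2, ?_⟩
    have := QuotientGroup.eq.1 hc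
    rw [inv_inv] at this
    have h2 := inv_mem this
    rwa [mul_inv_rev, inv_inv] at h2

end Setup

end Cfsg.Agent.GL23Amalgam
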