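import Cfsg.Agent.Lib.GL23Amalgam.Cent
import Cfsg.Agent.Lib.GL23Amalgam.Certs
import Cfsg.Agent.Lib.GL23Amalgam.Index

/-!
Only two relations survive.
-/

set_option autoImplicit false
set_option maxRecDepth 10000

namespace Cfsg.Agent.GL23Amalgam

open CosetCert

namespace Setup

variable {G : Type*} [Group G] (S : Setup G)

theorem wp_app_t {w : List ℕ} (h : S.wp w = S.t) : S.wp (w ++ [0]) = 1 := by
  rw [wp_append, h, wp_one]; exact S.tt

theorem false_of_cert {C : Cert} {ex K : List (List ℕ)} (h : C.OK ex K) (hn : C.n = 1)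
    (hex : ∀ L ∈ ex, S.wp L = 1) (hK : ∀ L ∈ K, S.wp L ∈ S.A) : False :=
  S.A_ne_top (S.cert_top h hn hex hK)

theorem lettersA_mem : ∀ L ∈ ([[0], [1], [2], [4], [5]] : List (List ℕ)), S.wp L ∈ S.A := by
  intro L hL
  simp only [List.mem_cons, List.not_mem_nil, or_false] at hL
  rcases hL with rfl | rfl | rfl | rfl | rfl <;> exact (S.wprod_A _ (by decide)).1

theorem wdd {h : S.wp wd * S.wp wd = 1} : S.wp (wd ++ wd) = 1 := by rw [wp_append, h]

variable [Finite G]

/-- In the first shape `d` is an involution. -/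
theorem main_sq {p : List ℕ} (h : S.Main p) : S.wp wd * S.wp wd = 1 := by
  obtain ⟨hp, hfp, hd4, hD, hQ⟩ := h
  obtain ⟨hdt, hdv, -⟩ := S.d_comm
  set j := S.wp wd ^ 2 with hj
  have hjj : j⁻¹ = j := inv_eq_of_mul_eq_one_right (by rw [hj, ← pow_add]; exact hd4)
  have h2 : Commute (S.gen 2) j := by
    have e : S.gen 2 * j * (S.gen 2)⁻¹ = j := by
      rw [hj, ← conj_pow, S.gen_self, S.a_d, inv_pow]; exact hjj
    exact mul_inv_eq_iff_eq_mul.1 e
  have h3 : Commute (S.gen 3) j := by
    have hy := (S.y_d.pow_right 2)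
    rw [← hj, wp_two] at hy
    have := h2.inv_left.mul_left hy
    rwa [inv_mul_cancel_left] at this
  have hmem : ∀ L ∈ ([[0], [1], [2], [3], wconj p, wconj wi] : List (List ℕ)),
      S.wp L ∈ Subgroup.centralizer ({j} : Set G) := by
    intro L hL
    simp only [List.mem_cons, List.not_mem_nil, or_false] at hL
    rw [Subgroup.mem_centralizer_singleton_iff]
    rcases hL with rfl | rfl | rfl | rfl | rfl | rfl
    · rw [wp_one]; exact (hdt.pow_left 2).symm.eq
    · rw [wp_one]; exact (hdv.pow_left 2).symm.eq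
    · rw [wp_one]; exact h2.eq
    · rw [wp_one]; exact h3.eq
    · exact hD.eq
    · exact hQ.eq
  have htop : Subgroup.centralizer ({j} : Set G) = ⊤ := by
    rcases hp with rfl | rfl
    · rcases hfp with hfp | hfp
      · exact S.cert_top genL_ok rfl (by simpa using hfp) hmem
      · exact S.cert_top genM_ok rfl (by simpa using S.wp_app_t hfp) hmem
    · exact S.cert_top genU_ok rfl (by simp) hmem
  have hx : Commute j (S.wp wx) :=
    ((Subgroup.mem_centralizer_singleton_iff.1 (htop ▸ Subgroup.mem_top (S.wp wx))) : _ ).symm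
  obtain ⟨i, hi⟩ := S.cent_xt (hdt.pow_left 2) hx
  have hT : S.InT j := by
    have hjj2 : j * j = 1 := by rw [hj, ← pow_add]; exact hd4
    rw [← hj] at hi
    have key : S.wp wx ^ i.val * S.wp wx ^ i.val = 1 := by
      rcases hi with hi | hi
      · rw [← hi, hjj2]
      · have hc : Commute S.t (S.wp wx ^ i.val) := S.tx.pow_right _
        calc S.wp wx ^ i.val * S.wp wx ^ i.val
            = S.wp wx ^ i.val * (S.t * S.t) * S.wp wx ^ i.val := by rw [S.tt, mul_one]
          _ = S.wp wx ^ i.val * S.t * (S.t * S.wp wx ^ i.val) := by group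
          _ = j * j := by rw [hc.eq, ← hi]
          _ = 1 := hjj2
    have h0 : S.wp wx ^ i.val = 1 := by
      have h3 : (S.wp wx ^ i.val) ^ 3 = 1 := by rw [← pow_mul, mul_comm, pow_mul, S.x_cube, one_pow]
      rwa [pow_three, key, mul_one] at h3
    rcases hi with hi | hi
    · exact Or.inl (hi.trans h0)
    · exact Or.inr (by rw [hi, h0, one_mul])
  rw [← pow_two]
  exact S.eq_one_of_InT hT (S.y_d.pow_right 2)

/-- Two relations remain. -/
theorem two_relations : S.wp (wd ++ wd) = 1 ∧ (S.wp (wfp wd) = 1 ∨ S.wp (wfp wd ++ [0]) = 1) := by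
  rcases S.cases with ⟨p, h⟩ | ⟨h1, h2⟩ | h
  · have hsq := S.main_sq h
    refine ⟨S.wdd (h := hsq), ?_⟩
    obtain ⟨hp, hfp, -, -, -⟩ := h
    rcases hp with rfl | rfl
    · exact hfp.imp id S.wp_app_t
    · exfalso
      rcases hfp with hfp | hfp
      · exact S.false_of_cert dU1_ok rfl (by simpa using ⟨S.wdd (h := hsq), hfp⟩) S.lettersA_mem
      · exact S.false_of_cert dU2_ok rfl (by simpa using ⟨S.wdd (h := hsq), S.wp_app_t hfp⟩) S.lettersA_mem
  · exfalso
    rcases h2 with h2 | h2
    · exact S.false_of_cert a5a_ok rfl (by simpa using ⟨S.wdd (h := h1), h2⟩) S.lettersA_mem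
    · exact S.false_of_cert a5b_ok rfl (by simpa using ⟨S.wdd (h := h1), S.wp_app_t h2⟩) S.lettersA_mem
  · refine ⟨S.wdd (h := by rw [h, mul_one]), Or.inl ?_⟩
    have hx := S.x_cube
    rw [pow_three] at hx
    simp only [wfp, wp_append, h, x_inv, one_mul, mul_one]
    group

end Setup

end Cfsg.Agent.GL23Amalgam
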