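import Cfsg.Agent.Lib.GL23Amalgam.Index
import Cfsg.Agent.Lib.GL23Amalgam.Data.Reach
import Cfsg.Agent.Lib.GL23Amalgam.Certs

/-!
The two surviving tables are primitive.
-/

set_option autoImplicit false
set_option maxRecDepth 100000

namespace Cfsg.Agent.GL23Amalgam

theorem l13_prim : l13.Prim Data.repsL13 Data.coverL13 Data.rootL13 Data.primL13 :=
  ⟨rfl, by decide +kernel, by decide +kernel, by decide +kernel, by decide +kernel, by decide +kernel,
    by decide +kernel⟩

theorem m220_prim : m220.Prim Data.repsM220 Data.coverM220 Data.rootM220 Data.primM220 :=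
  ⟨rfl, by decide +kernel, by decide +kernel, by decide +kernel, by decide +kernel, by decide +kernel,
    by decide +kernel⟩

end Cfsg.Agent.GL23Amalgam
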