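import Cfsg.Agent.Lib.GL23Amalgam.Normal
import Cfsg.Agent.Lib.GL23Amalgam.Kill
import Cfsg.Agent.Lib.GL23Amalgam.Prims
import Cfsg.Agent.Lib.GLTwoThree.Hex

/-!
The two groups: the one of index 13 is a quotient of `SL(3,3)` of full order, the one of index 220 is
simple of order 95040.
-/

set_option autoImplicit false
set_option maxRecDepth 100000
set_option linter.style.haveILetI false

namespace Cfsg.Agent.GL23Amalgam

open CosetCert

/-- The letters of a word, rewritten for the table of index 13. -/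
def toL13 (w : List ℕ) : List ℕ := w.map fun i => [2, 3, 1, 4, 5, 0].getD i 6

/-- A word acting trivially on the 13 points. -/
noncomputable def fixesL13 (w : List ℕ) : Bool :=
  ((toL13 w).all fun x => Nat.blt x 6) && decide (l13.pm (toL13 w) = w) &&
    allBelow (fun c => Nat.beq (tact l13.P (toL13 w) c) c) l13.n

namespace Setup

variable {G : Type*} [Group G] (S : Setup G)

theorem card_of_index {n : ℕ} (h : S.A.index = n) : Nat.card G = 432 * n := by
  rw [← Subgroup.card_mul_index S.A, S.card_A, h]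

theorem l13_spec (h1 : S.wp (wd ++ wd) = 1) (h2 : S.wp (wfp wd) = 1) :
    Nat.card G = 5616 ∧ ∀ w, fixesL13 w = true → S.wp w = 1 := by
  obtain ⟨-, hidx, hiff, hcov⟩ := S.prim_spec l13_ok l13_prim
    (by intro L hL; simp only [List.mem_cons, List.not_mem_nil, or_false] at hL
        rcases hL with rfl | rfl <;> assumption) S.lettersA_mem
  refine ⟨(S.card_of_index hidx).trans rfl, fun w hw => ?_⟩
  simp only [fixesL13, Bool.and_eq_true, List.all_eq_true, Nat.blt_eq, decide_eq_true_eq] at hw
  obtain ⟨⟨h6, hpm⟩, hfix⟩ := hw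
  have hcore : S.wp w ∈ S.A.normalCore := by
    intro g
    obtain ⟨u, hu, hg⟩ := hcov g
    set α := g * (S.wp (l13.pm u))⁻¹
    have hv : ∀ x ∈ u ++ toL13 w ++ u.reverse, x < 6 := by
      intro x hx
      simp only [List.mem_append, List.mem_reverse] at hx
      rcases hx with (hx | hx) | hx
      · exact hu x hx
      · exact h6 x hx
      · exact hu x hx
    have hlt := (tact_lt l13_ok u (fun x hx => l13_prim.six.symm ▸ hu x hx) 0 (by decide)).1
    have hback := (tact_lt l13_ok u (fun x hx => l13_prim.six.symm ▸ hu x hx) 0 (by decide)).2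
    have hmem := (hiff _ hv).2 (by
      rw [tact_append, tact_append, Nat.eq_of_beq_eq_true (allBelow_spec hfix hlt)]
      exact hback)
    rw [pm_append, pm_append, hpm, wp_append, wp_append,
      show l13.pm u.reverse = (l13.pm u).reverse from List.map_reverse, wp_reverse] at hmem
    have := mul_mem (mul_mem hg hmem) (inv_mem hg)
    rwa [show α * (S.wp (l13.pm u) * S.wp w * (S.wp (l13.pm u))⁻¹) * α⁻¹ = g * S.wp w * g⁻¹ by
      simp only [α]; group] at this
  rwa [S.normal_le_A (Subgroup.normalCore_normal _) (Subgroup.normalCore_le _), Subgroup.mem_bot] at hcore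

theorem conj_wp (g v : List ℕ) : MulAut.conj (S.wp g) (S.wp v) = S.wp (g ++ v ++ g.reverse) := by
  rw [MulAut.conj_apply, wp_append, wp_append, wp_reverse]

theorem commute_of_word {u v : List ℕ} (h : S.wp (u ++ v ++ u.reverse ++ v.reverse) = 1) :
    Commute (S.wp u) (S.wp v) := by
  rw [wp_append, wp_append, wp_append, wp_reverse, wp_reverse] at h
  exact commutatorElement_eq_one_iff_commute.1 h

theorem nonempty_psl [Finite G] (h1 : S.wp (wd ++ wd) = 1) (h2 : S.wp (wfp wd) = 1) :
    Nonempty (G ≃* Matrix.ProjectiveSpecialLinearGroup (Fin 3) (ZMod 3)) := by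
  obtain ⟨hcard, hrel⟩ := S.l13_spec h1 h2
  refine (GLTwoThree.Hex.mk (S.wp wX) (S.wp [2, 3]) (S.wp [2]) ?_ ?_ ?_ ?_ ?_ ?_ ?_ ?_).nonempty_psl hcard
  · rw [S.x_inv, inv_pow, S.x_cube, inv_one]
  · rw [S.x_inv, ne_eq, inv_eq_one]; exact S.x_ne
  · rw [pow_three, ← wp_append, ← wp_append]; exact hrel _ (by decide +kernel)
  · rw [wp_one]; exact S.gen_inv 2
  · rw [← wp_append, ← wp_append]; exact hrel _ (by decide +kernel)
  · rw [conj_wp, conj_wp]; exact S.commute_of_word (hrel _ (by decide +kernel))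
  · rw [conj_wp, conj_wp, conj_wp]; exact S.commute_of_word (hrel _ (by decide +kernel))
  · rw [conj_wp, conj_wp, conj_wp, commutatorElement_def, ← wp_reverse, ← wp_reverse, ← wp_append,
      ← wp_append, ← wp_append, ← mul_inv_eq_one, ← wp_reverse, ← wp_append]
    exact hrel _ (by decide +kernel)

theorem simple_and_card [Finite G] (h1 : S.wp (wd ++ wd) = 1) (h2 : S.wp (wfp wd ++ [0]) = 1) :
    IsSimpleGroup G ∧ Nat.card G = 95040 := by
  obtain ⟨-, hidx, -, -⟩ := S.prim_spec m220_ok m220_prim
    (by intro L hL; simp only [List.mem_cons, List.not_mem_nil, or_false] at hL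
        rcases hL with rfl | rfl <;> assumption) S.lettersA_mem
  refine ⟨?_, (S.card_of_index hidx).trans rfl⟩
  haveI : Nontrivial G := ⟨⟨S.t, 1, S.t_ne⟩⟩
  refine { eq_bot_or_eq_top_of_normal := fun N hN => ?_ }
  by_cases hd : ∀ k ∈ N, k ∈ S.A → k = 1
  · exact Or.inl (S.normal_disjoint_eq_bot hN hd)
  · push Not at hd
    obtain ⟨k, hk, hkA, hk1⟩ := hd
    exact Or.inr (S.normal_meet_eq_top hN hk hkA hk1)

end Setup

end Cfsg.Agent.GL23Amalgam
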