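import Cfsg.Agent.Lib.GL23Amalgam.Cent
import Cfsg.Agent.Lib.GL23Amalgam.CertUse
import Cfsg.Agent.Lib.SelfThree.FPF
import Mathlib.GroupTheory.Subgroup.Centralizer

/-!
Normal subgroups of a group generated by the amalgam.
-/

set_option autoImplicit false
set_option maxRecDepth 10000
set_option linter.style.haveILetI false

namespace Cfsg.Agent.GL23Amalgam

open CosetCert SelfThree

/-- Short list of linear maps conjugating every translation to the standard one. -/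
theorem tr_conj : ∀ p q : ZMod 3, (p, q) ≠ (0, 0) →
    ∃ m ∈ ([⟨1, 0, 0, 1, 0, 0⟩, ⟨2, 0, 0, 1, 0, 0⟩, ⟨0, 1, 1, 0, 0, 0⟩, ⟨0, 2, 1, 0, 0, 0⟩,
      ⟨1, 0, 1, 2, 0, 0⟩, ⟨2, 0, 1, 1, 0, 0⟩, ⟨1, 0, 2, 2, 0, 0⟩, ⟨2, 0, 2, 1, 0, 0⟩] : List Aff),
      m.OK ∧ m * Aff.tr p q = Aff.tr 1 0 * m := by
  decide +kernel

theorem tr_mul : ∀ p q p' q' : ZMod 3, Aff.tr p q * Aff.tr p' q' = Aff.tr (p + p') (q + q') := by
  decide +kernel

theorem tr_cube : ∀ p q : ZMod 3, Aff.tr p q * Aff.tr p q * Aff.tr p q = 1 := by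
  decide +kernel

/-- An affine map commutes with both standard translations, or moves one of them. -/
theorem tr_escape : ∀ m : Aff, m.OK → m ≠ 1 → (∃ p q : ZMod 3, m = Aff.tr p q) ∨
    (∃ p q : ZMod 3, m * Aff.tr 1 0 = Aff.tr p q * (Aff.tr 1 0 * m) ∧ (p, q) ≠ (0, 0)) ∨
    (∃ p q : ZMod 3, m * Aff.tr 0 1 = Aff.tr p q * (Aff.tr 0 1 * m) ∧ (p, q) ≠ (0, 0)) :=
  Aff.forall_of_all (by decide +kernel)

theorem tr_ne : ∀ p q : ZMod 3, (p, q) ≠ (0, 0) → Aff.tr p q ≠ 1 := by decide +kernel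

theorem abelian_cube {K : Type*} [Group K] [hc : IsMulCommutative K] {a b c d e f g h i : K} (h1 : a * b * c = 1)
    (h2 : a * d * g = 1) (h3 : a * e * i = 1) (h4 : a * f * h = 1) (h5 : d * e * f = 1)
    (h6 : g * h * i = 1) : a * a * a = 1 := by
  letI : CommGroup K := { ‹Group K› with mul_comm := hc.is_comm.comm }
  have key : a * a * a * ((a * b * c) * (d * e * f) * (g * h * i)) =
      (a * b * c) * (a * d * g) * (a * e * i) * (a * f * h) := by ac_rfl
  simpa [h1, h2, h3, h4, h5, h6] using key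

namespace Setup

variable {G : Type*} [Group G] (S : Setup G)

/-- An element of the first side acting as a translation. -/
def IsTr (g : G) : Prop := ∃ h : g ∈ S.A, ∃ p q : ZMod 3, S.φA ⟨g, h⟩ = Aff.tr p q

theorem isTr_mul {g g' : G} (h : S.IsTr g) (h' : S.IsTr g') : S.IsTr (g * g') := by
  obtain ⟨hm, p, q, e⟩ := h
  obtain ⟨hm', p', q', e'⟩ := h'
  exact ⟨mul_mem hm hm', p + p', q + q', by rw [← tr_mul, ← e, ← e', ← map_mul]; rfl⟩

theorem isTr_cube {g : G} (h : S.IsTr g) : g * g * g = 1 := by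
  obtain ⟨hm, p, q, e⟩ := h
  have : (⟨g, hm⟩ * ⟨g, hm⟩ * ⟨g, hm⟩ : S.A) = 1 := S.injA (by rw [map_mul, map_mul, e, map_one, tr_cube])
  exact congrArg Subtype.val this

theorem isTr_inv {g : G} (h : S.IsTr g) : S.IsTr g⁻¹ := by
  rw [show g⁻¹ = g * g from inv_eq_of_mul_eq_one_right (by rw [← mul_assoc]; exact S.isTr_cube h)]
  exact S.isTr_mul h h

theorem wz_isTr : S.IsTr (S.wp wz) := by
  obtain ⟨h, e⟩ := S.wprod_A wz (by decide)
  exact ⟨h, 1, 0, e.trans (by decide +kernel)⟩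

theorem we_isTr : S.IsTr (S.wp we) := by
  obtain ⟨h, e⟩ := S.wprod_A we (by decide)
  exact ⟨h, 0, 1, e.trans (by decide +kernel)⟩

theorem isTr_conj_wz {g : G} (h : S.IsTr g) (hne : g ≠ 1) : ∃ a ∈ S.A, a * g * a⁻¹ = S.wp wz := by
  obtain ⟨hm, p, q, e⟩ := h
  have hpq : (p, q) ≠ ((0, 0) : ZMod 3 × ZMod 3) := fun hpq => hne (by
    have : (⟨g, hm⟩ : S.A) = 1 := S.injA (by
      obtain ⟨rfl, rfl⟩ := Prod.mk.inj hpq
      rw [e, map_one]; rfl)
    exact congrArg Subtype.val this)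
  obtain ⟨m, -, hok, hc⟩ := tr_conj p q hpq
  obtain ⟨α, hα⟩ := S.surjA m hok
  obtain ⟨hz, ez⟩ := S.wprod_A wz (by decide)
  have hz' : S.φA ⟨S.wp wz, hz⟩ = Aff.tr 1 0 := ez.trans (by decide +kernel)
  have key : α * ⟨g, hm⟩ = ⟨S.wp wz, hz⟩ * α := S.injA (by rw [map_mul, map_mul, e, hα, hz']; exact hc)
  exact ⟨α, α.2, mul_inv_eq_iff_eq_mul.2 (congrArg Subtype.val key)⟩

/-- A normal subgroup meeting the first side contains its translations. -/
theorem isTr_mem_of_normal {N : Subgroup G} (hN : N.Normal) {k : G} (hk : k ∈ N) (hkA : k ∈ S.A) (hk1 : k ≠ 1)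
    {g : G} (hg : S.IsTr g) : g ∈ N := by
  have hz : S.wp wz ∈ N := by
    obtain ⟨n, hn, hT, hn1⟩ : ∃ n ∈ N, S.IsTr n ∧ n ≠ 1 := by
      have hm1 : S.φA ⟨k, hkA⟩ ≠ 1 := fun h => hk1 (congrArg Subtype.val (S.injA (h.trans (map_one _).symm)))
      have step : ∀ w : List ℕ, ∀ i j p q : ZMod 3, lettersIn lettersA w = true → ev genA w = Aff.tr i j →
          S.φA ⟨k, hkA⟩ * Aff.tr i j = Aff.tr p q * (Aff.tr i j * S.φA ⟨k, hkA⟩) → (p, q) ≠ (0, 0) →
          ∃ n ∈ N, S.IsTr n ∧ n ≠ 1 := by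
        intro w i j p q hl hw hc hpq
        obtain ⟨hv, ev'⟩ := S.wprod_A w hl
        rw [hw] at ev'
        set v : S.A := ⟨wprod S.gen w, hv⟩
        set kk : S.A := ⟨k, hkA⟩
        have hval : S.φA (kk * v * kk⁻¹ * v⁻¹) = Aff.tr p q := by
          have h1 : S.φA (kk * v) = Aff.tr p q * S.φA (v * kk) := by rw [map_mul, map_mul, ev']; exact hc
          rw [show kk * v * kk⁻¹ * v⁻¹ = kk * v * (v * kk)⁻¹ by group, map_mul, h1, mul_assoc, ← map_mul,
            mul_inv_cancel, map_one, mul_one]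
        refine ⟨(kk * v * kk⁻¹ * v⁻¹ : S.A), ?_, ⟨SetLike.coe_mem _, p, q, hval⟩, fun h => ?_⟩
        · show k * (v : G) * k⁻¹ * (v : G)⁻¹ ∈ N
          rw [show k * (v : G) * k⁻¹ * (v : G)⁻¹ = k * ((v : G) * k⁻¹ * (v : G)⁻¹) by group]
          exact mul_mem hk (hN.conj_mem _ (inv_mem hk) _)
        · exact tr_ne p q hpq (hval.symm.trans (by rw [OneMemClass.coe_eq_one.1 h, map_one]))
      rcases tr_escape _ (S.okA _) hm1 with ⟨p, q, e⟩ | ⟨p, q, e, h⟩ | ⟨p, q, e, h⟩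
      · exact ⟨k, hk, ⟨hkA, p, q, e⟩, hk1⟩
      · exact step wz 1 0 p q (by decide) (by decide +kernel) e h
      · exact step we 0 1 p q (by decide) (by decide +kernel) e h
    obtain ⟨a, -, ha⟩ := S.isTr_conj_wz hT hn1
    exact ha ▸ hN.conj_mem _ hn a
  by_cases h1 : g = 1
  · exact h1 ▸ one_mem N
  obtain ⟨a, -, ha⟩ := S.isTr_conj_wz hg h1
  have := hN.conj_mem _ (ha ▸ hz) a⁻¹
  rwa [show a⁻¹ * (a * g * a⁻¹) * a⁻¹⁻¹ = g by group] at this

/-- The first side contains no normal subgroup. -/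
theorem normal_le_A {N : Subgroup G} (hN : N.Normal) (hle : N ≤ S.A) : N = ⊥ := by
  rw [Subgroup.eq_bot_iff_forall]
  intro k hk
  by_contra hk1
  have he : S.wp ([3] ++ we ++ [3]) ∈ S.A := by
    refine hle ?_
    rw [wp_append, wp_append]
    have := hN.conj_mem _ (S.isTr_mem_of_normal hN hk (hle hk) hk1 S.we_isTr) (S.gen 3)
    rwa [S.gen_self, ← wp_one] at this
  obtain ⟨hB, eB⟩ := S.wprod_B ([3] ++ we ++ [3]) (by decide)
  have := (S.borelB ⟨_, hB⟩).1 he
  rw [eB] at this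
  revert this
  decide +kernel

/-- A normal subgroup meeting the first side is everything. -/
theorem normal_meet_eq_top {N : Subgroup G} (hN : N.Normal) {k : G} (hk : k ∈ N) (hkA : k ∈ S.A) (hk1 : k ≠ 1) :
    N = ⊤ := by
  have cj : ∀ {w : List ℕ} (g : List ℕ), S.wp w ∈ N → S.wp (g ++ w ++ g.reverse) ∈ N := fun g h => by
    rw [wp_append, wp_append, wp_reverse]; exact hN.conj_mem _ h _
  have mm : ∀ {u v : List ℕ}, S.wp u ∈ N → S.wp v ∈ N → S.wp (u ++ v) ∈ N := fun hu hv => by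
    rw [wp_append]; exact mul_mem hu hv
  have he : S.wp we ∈ N := S.isTr_mem_of_normal hN hk hkA hk1 S.we_isTr
  have hz : S.wp wz ∈ N := S.isTr_mem_of_normal hN hk hkA hk1 S.wz_isTr
  have hX : S.wp wX ∈ N := by
    rw [show S.wp wX = S.wp ([3] ++ wz ++ [3].reverse) from S.eqB (by decide) (by decide) (by decide +kernel)]
    exact cj [3] hz
  have hx : S.wp wx ∈ N := by
    have := inv_mem hX
    rwa [S.x_inv, inv_inv] at this
  have hi : S.wp wi ∈ N := by
    rw [show S.wp wi = S.wp (wX ++ ([2] ++ wx ++ [2].reverse) ++ wX) from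
      S.eqA (by decide) (by decide) (by decide +kernel)]
    exact mm (mm hX (cj [2] hx)) hX
  have ht : S.wp [0] ∈ N := by
    rw [show S.wp [0] = S.wp (wi ++ wi) from S.eqA (by decide) (by decide) (by decide +kernel)]
    exact mm hi hi
  have hv : S.wp [1] ∈ N := by
    rw [wp_one, ← S.y_conj.1]
    exact hN.conj_mem _ (by rwa [wp_one] at ht) _
  have ha : S.wp [2] ∈ N := by
    rw [show S.wp [2] = S.wp (wi ++ [1]) from S.eqA (by decide) (by decide) (by decide +kernel)]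
    exact mm hi hv
  have hp : S.wp [4] ∈ N := by
    rw [show S.wp [4] = S.wp ([1] ++ wx) from S.eqA (by decide) (by decide) (by decide +kernel)]
    exact mm hv hx
  have hr : S.wp [5] ∈ N := by
    rw [show S.wp [5] = S.wp ([0] ++ we) from S.eqA (by decide) (by decide) (by decide +kernel)]
    exact mm ht he
  have hb : S.wp [3] ∈ N := by
    have h30 : S.wp [3, 0] ∈ N := by
      rw [show S.wp [3, 0] = S.wp (we ++ ([3] ++ we.reverse ++ [3].reverse) ++ we) from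
        S.eqB (by decide) (by decide) (by decide +kernel)]
      exact mm (mm he (cj [3] (by rw [wp_reverse]; exact inv_mem he))) he
    rw [show S.wp [3] = S.wp ([3, 0] ++ [0]) from S.eqB (by decide) (by decide) (by decide +kernel)]
    exact mm h30 ht
  refine top_le_iff.1 (S.closure_eq_top ▸ (Subgroup.closure_le _).2 ?_)
  rintro _ ⟨j, hj, rfl⟩
  rw [Set.mem_ofPred_eq] at hj
  rw [wp_one] at ht hv ha hp hr hb
  interval_cases j <;> assumption

/-- A normal subgroup missing the first side is trivial. -/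
theorem normal_disjoint_eq_bot [Finite G] {N : Subgroup G} (hN : N.Normal)
    (hd : ∀ k ∈ N, k ∈ S.A → k = 1) : N = ⊥ := by
  have hfpf : ∀ {g : G}, S.IsTr g → g ≠ 1 → Fpf g N := by
    intro g hg hg1
    refine ⟨by rw [pow_succ, pow_two]; exact S.isTr_cube hg, fun q hq => hN.conj_mem _ hq _, fun q hq hc => ?_⟩
    obtain ⟨a, -, ha⟩ := S.isTr_conj_wz hg hg1
    have hc' : Commute (S.wp wz) (a * q * a⁻¹) := ha ▸ hc.map (MulAut.conj a).toMonoidHom
    have hmem := S.normZ (a * q * a⁻¹) (by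
      rw [← hc'.eq, mul_inv_cancel_right]; exact Subgroup.mem_zpowers _)
    exact conj_eq_one_iff.1 (hd _ (hN.conj_mem _ hq _) hmem.1)
  rw [Subgroup.eq_bot_iff_forall]
  intro q hq
  have hcomm : ∀ g g' : G, S.IsTr g → S.IsTr g' → g * q * g⁻¹ * (g' * q * g'⁻¹) = g' * q * g'⁻¹ * (g * q * g⁻¹) := by
    intro g g' hg hg'
    by_cases h : g⁻¹ * g' = 1
    · rw [inv_mul_eq_one.1 h]
    · have hc := ((hfpf (S.isTr_mul (S.isTr_inv hg) hg') h).commute_conj hq).map (MulAut.conj g).toMonoidHom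
      simp only [MulEquiv.coe_toMonoidHom, MulAut.conj_apply] at hc
      rw [show g * (g⁻¹ * g' * q * (g⁻¹ * g')⁻¹) * g⁻¹ = g' * q * g'⁻¹ by group] at hc
      exact hc.eq
  let T : Set G := {x | ∃ g, S.IsTr g ∧ g * q * g⁻¹ = x}
  haveI : IsMulCommutative (Subgroup.closure T) := Subgroup.isMulCommutative_closure (by
    rintro _ ⟨g, hg, rfl⟩ _ ⟨g', hg', rfl⟩; exact hcomm g g' hg hg')
  let el : (g : G) → S.IsTr g → Subgroup.closure T := fun g hg =>
    ⟨g * q * g⁻¹, Subgroup.subset_closure ⟨g, hg, rfl⟩⟩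
  obtain ⟨z, hzdef⟩ : ∃ z, z = S.wp wz := ⟨_, rfl⟩
  obtain ⟨e, hedef⟩ : ∃ e, e = S.wp we := ⟨_, rfl⟩
  have tz : S.IsTr z := hzdef ▸ S.wz_isTr
  have te : S.IsTr e := hedef ▸ S.we_isTr
  have t1 : S.IsTr 1 := ⟨one_mem _, 0, 0, by rw [show (⟨1, one_mem _⟩ : S.A) = 1 from rfl, map_one]; rfl⟩
  have tze := S.isTr_mul tz te
  have tzE := S.isTr_mul tz (S.isTr_inv te)
  have hez : Commute e z := by
    rw [Commute, SemiconjBy, hzdef, hedef]
    rw [← wp_append, ← wp_append]; exact S.eqA (by decide) (by decide) (by decide +kernel)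
  have ne1 : z ≠ 1 ∧ e ≠ 1 ∧ z * e ≠ 1 ∧ z * e⁻¹ ≠ 1 := by
    simp only [hzdef, hedef, ← S.wp_nil, ← wp_reverse, ← wp_append]
    exact ⟨S.neA (by decide) (by decide) (by decide +kernel), S.neA (by decide) (by decide) (by decide +kernel),
      S.neA (by decide) (by decide) (by decide +kernel), S.neA (by decide) (by decide) (by decide +kernel)⟩
  have fe := hfpf te ne1.2.1
  have row : ∀ {g : G} (hg : S.IsTr g), g ≠ 1 → el 1 t1 * el g hg * el g⁻¹ (S.isTr_inv hg) = 1 := fun hg h1 =>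
    Subtype.ext (by simpa [el] using (hfpf hg h1).prod_eq hq)
  have hrow : ∀ {g : G} (hg : S.IsTr g),
      el g hg * el (e * g) (S.isTr_mul te hg) * el (e⁻¹ * g) (S.isTr_mul (S.isTr_inv te) hg) = 1 := fun {g} hg =>
    Subtype.ext (by simpa [el, mul_assoc] using fe.prod_eq (hN.conj_mem _ hq g))
  have elc : ∀ {g g' : G} (hg : S.IsTr g) (hg' : S.IsTr g'), g = g' → el g hg = el g' hg' := by
    intro g g' hg hg' h; subst h; rfl
  have h5 := hrow tz
  rw [elc (S.isTr_mul te tz) tze hez.eq, elc (S.isTr_mul (S.isTr_inv te) tz) tzE hez.inv_left.eq] at h5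
  have h6 := hrow (S.isTr_inv tz)
  rw [elc (S.isTr_mul te (S.isTr_inv tz)) (S.isTr_inv tzE) (by group),
    elc (S.isTr_mul (S.isTr_inv te) (S.isTr_inv tz)) (S.isTr_inv tze) (by group)] at h6
  have h0 := congrArg Subtype.val (abelian_cube (row te ne1.2.1) (row tz ne1.1) (row tze ne1.2.2.1) (row tzE ne1.2.2.2) h5 h6)
  replace h0 : q * q * q = 1 := by simpa [el] using h0
  by_contra hq1
  haveI : Fact (Nat.Prime 3) := ⟨Nat.prime_three⟩
  have h3 : 3 ∣ Nat.card N := by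
    rw [← orderOf_eq_prime (x := (⟨q, hq⟩ : N)) (p := 3)
      (Subtype.ext (by simpa [pow_succ] using h0)) (fun h => hq1 (congrArg Subtype.val h))]
    exact orderOf_dvd_natCard _
  have := fe.card_mod
  omega

end Setup

end Cfsg.Agent.GL23Amalgam
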